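import Mathlib

/-!
# The number of binary ones and the chain length function `⌈3n/2⌉ - b(n) - 1`
-/

set_option autoImplicit false

namespace CfsgLib.ChainLength

/-- The number of ones in base two. -/
def bits (n : ℕ) : ℕ := (Nat.digits 2 n).count 1

/-- The chain length of the symmetric group of degree `n`. -/
def chainFun (n : ℕ) : ℕ := (3 * n + 1) / 2 - bits n - 1

@[simp] theorem bits_zero : bits 0 = 0 := by simp [bits]

theorem bits_eq_mod_add {n : ℕ} : bits n = n % 2 + bits (n / 2) := by
  rcases Nat.eq_zero_or_pos n with rfl | h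
  · simp
  · unfold bits
    rw [Nat.digits_def' (by norm_num) h, List.count_cons]
    rcases Nat.mod_two_eq_zero_or_one n with h2 | h2 <;> simp [h2] <;> omega

theorem bits_two_mul (n : ℕ) : bits (2 * n) = bits n := by
  rw [bits_eq_mod_add, Nat.mul_mod_right, Nat.mul_div_cancel_left n (by norm_num), Nat.zero_add]

theorem bits_two_mul_add_one (n : ℕ) : bits (2 * n + 1) = bits n + 1 := by
  rw [bits_eq_mod_add, show (2 * n + 1) % 2 = 1 by omega, show (2 * n + 1) / 2 = n by omega,
    Nat.add_comm]

@[simp] theorem bits_one : bits 1 = 1 := by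
  rw [show (1 : ℕ) = 2 * 0 + 1 from rfl, bits_two_mul_add_one, bits_zero]

theorem bits_add (a c : ℕ) : bits (a + c) + (a % 2) * (c % 2) ≤ bits a + bits c := by
  induction h : a + c using Nat.strong_induction_on generalizing a c with
  | _ s ih =>
    subst h
    rcases Nat.eq_zero_or_pos a with rfl | ha
    · simp
    rcases Nat.eq_zero_or_pos c with rfl | hc
    · simp
    obtain ⟨x, rfl | rfl⟩ : ∃ x, a = 2 * x ∨ a = 2 * x + 1 := ⟨a / 2, by omega⟩ <;>
    obtain ⟨y, rfl | rfl⟩ : ∃ y, c = 2 * y ∨ c = 2 * y + 1 := ⟨c / 2, by omega⟩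
    · rw [← Nat.mul_add, bits_two_mul, bits_two_mul, bits_two_mul, Nat.mul_mod_right, Nat.zero_mul]
      have := ih (x + y) (by omega) x y rfl
      omega
    · rw [← Nat.add_assoc, ← Nat.mul_add, bits_two_mul, bits_two_mul_add_one, bits_two_mul_add_one,
        Nat.mul_mod_right, Nat.zero_mul]
      have := ih (x + y) (by omega) x y rfl
      omega
    · rw [Nat.add_right_comm, ← Nat.mul_add, bits_two_mul, bits_two_mul_add_one, bits_two_mul_add_one,
        Nat.mul_mod_right, Nat.mul_zero]
      have := ih (x + y) (by omega) x y rfl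
      omega
    · rw [show 2 * x + 1 + (2 * y + 1) = 2 * (x + y + 1) by ring, bits_two_mul, bits_two_mul_add_one,
        bits_two_mul_add_one, show (2 * x + 1) % 2 = 1 by omega, show (2 * y + 1) % 2 = 1 by omega]
      have h1 := ih (x + y) (by omega) x y rfl
      have h2 := ih (x + y + 1) (by omega) (x + y) 1 rfl
      rw [bits_one] at h2
      omega

theorem bits_add_le (a c : ℕ) : bits (a + c) ≤ bits a + bits c :=
  (Nat.le_add_right _ _).trans (bits_add a c)

theorem bits_mul_le (a c : ℕ) : bits (a * c) ≤ bits a * bits c := by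
  induction a using Nat.strong_induction_on with
  | _ a ih =>
    rcases Nat.eq_zero_or_pos a with rfl | ha
    · simp
    obtain ⟨x, rfl | rfl⟩ : ∃ x, a = 2 * x ∨ a = 2 * x + 1 := ⟨a / 2, by omega⟩
    · rw [Nat.mul_assoc, bits_two_mul, bits_two_mul]
      exact ih x (by omega)
    · rw [Nat.add_mul, Nat.one_mul, Nat.mul_assoc, bits_two_mul_add_one, Nat.add_mul, Nat.one_mul]
      refine (bits_add_le _ _).trans (Nat.add_le_add_right ?_ _)
      rw [bits_two_mul]
      exact ih x (by omega)

theorem bits_le_self (n : ℕ) : bits n ≤ n := by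
  induction n using Nat.strong_induction_on with
  | _ n ih =>
    rcases Nat.eq_zero_or_pos n with rfl | h
    · simp
    rw [bits_eq_mod_add]
    have := ih (n / 2) (by omega)
    omega

theorem one_le_bits {n : ℕ} (h : 1 ≤ n) : 1 ≤ bits n := by
  induction n using Nat.strong_induction_on with
  | _ n ih =>
    rw [bits_eq_mod_add]
    rcases Nat.mod_two_eq_zero_or_one n with h2 | h2
    · have := ih (n / 2) (by omega) (by omega)
      omega
    · omega

theorem bits_lt_self {n : ℕ} (h : 2 ≤ n) : bits n < n := by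
  rw [bits_eq_mod_add]
  have := bits_le_self (n / 2)
  omega

theorem two_le_bits_of_odd {n : ℕ} (h : 2 ≤ n) (ho : n % 2 = 1) : 2 ≤ bits n := by
  rw [bits_eq_mod_add]
  have := one_le_bits (n := n / 2) (by omega)
  omega

theorem bits_le_log (n : ℕ) : bits n ≤ Nat.log 2 n + 1 := by
  induction n using Nat.strong_induction_on with
  | _ n ih =>
    rcases lt_or_ge n 2 with h | h
    · have := bits_le_self n; omega
    · rw [bits_eq_mod_add]
      have := ih (n / 2) (by omega)
      rw [Nat.log_of_one_lt_of_le (by norm_num) h]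
      omega

theorem chainFun_add {n : ℕ} (hn : 1 ≤ n) : chainFun n + bits n + 1 = (3 * n + 1) / 2 := by
  have := bits_le_self n
  rcases eq_or_ne n 1 with rfl | h
  · simp [chainFun]
  · have := bits_lt_self (n := n) (by omega)
    simp only [chainFun]
    omega

/-- Intransitive groups are short enough. -/
theorem chainFun_sum_le {a c : ℕ} (ha : 1 ≤ a) (hc : 1 ≤ c) :
    chainFun a + chainFun c + 1 ≤ chainFun (a + c) := by
  have h1 := chainFun_add ha
  have h2 := chainFun_add hc
  have h3 := chainFun_add (n := a + c) (by omega)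
  have h4 := bits_add a c
  rcases Nat.mod_two_eq_zero_or_one a with ha2 | ha2 <;>
    rcases Nat.mod_two_eq_zero_or_one c with hc2 | hc2 <;> simp only [ha2, hc2] at h4 <;> omega

/-- Imprimitive groups are short enough. -/
theorem chainFun_wreath_le {a m : ℕ} (ha : 2 ≤ a) (hm : 2 ≤ m) :
    m * chainFun a + chainFun m + 1 ≤ chainFun (a * m) := by
  have hfa := chainFun_add (n := a) (by omega)
  have hfm := chainFun_add (n := m) (by omega)
  have hfam := chainFun_add (n := a * m) (Nat.mul_pos (by omega) (by omega))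
  have hb := bits_mul_le a m
  have hbm := bits_lt_self hm
  have hbm1 := one_le_bits (n := m) (by omega)
  have hba1 := one_le_bits (n := a) (by omega)
  have hbm2 : m % 2 = 1 → 2 ≤ bits m := two_le_bits_of_odd hm
  obtain ⟨x, rfl | rfl⟩ : ∃ x, a = 2 * x ∨ a = 2 * x + 1 := ⟨a / 2, by omega⟩
  · rw [show (3 * (2 * x) + 1) / 2 = 3 * x by omega] at hfa
    rw [show (3 * (2 * x * m) + 1) / 2 = 3 * x * m by
      rw [show 3 * (2 * x * m) = 2 * (3 * x * m) by ring]; omega] at hfam
    have key : bits (2 * x * m) + (3 * m + 1) / 2 + 1 ≤ m * bits (2 * x) + m + bits m := by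
      rcases eq_or_lt_of_le hm with rfl | hm3
      · rw [Nat.mul_comm (2 * x) 2, bits_two_mul] at hb ⊢
        rw [show bits 2 = 1 by rw [show (2 : ℕ) = 2 * 1 from rfl, bits_two_mul, bits_one]] at *
        omega
      · have h1 : bits (2 * x) * bits m + m ≤ m * bits (2 * x) + bits m := by nlinarith
        omega
    nlinarith
  · have hba2 : 2 ≤ bits (2 * x + 1) := two_le_bits_of_odd ha (by omega)
    rw [show (3 * (2 * x + 1) + 1) / 2 = 3 * x + 2 by omega] at hfa
    have key : bits ((2 * x + 1) * m) + m + 1 ≤ m * bits (2 * x + 1) + bits m := by nlinarith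
    rcases Nat.mod_two_eq_zero_or_one m with h2 | h2
    · obtain ⟨y, rfl⟩ : ∃ y, m = 2 * y := ⟨m / 2, by omega⟩
      rw [show (3 * ((2 * x + 1) * (2 * y)) + 1) / 2 = 3 * x * (2 * y) + 3 * y by
        rw [show 3 * ((2 * x + 1) * (2 * y)) = 2 * (3 * x * (2 * y) + 3 * y) by ring]; omega] at hfam
      rw [show (3 * (2 * y) + 1) / 2 = 3 * y by omega] at hfm
      nlinarith
    · obtain ⟨y, rfl⟩ : ∃ y, m = 2 * y + 1 := ⟨m / 2, by omega⟩
      rw [show (3 * ((2 * x + 1) * (2 * y + 1)) + 1) / 2 = 3 * x * (2 * y + 1) + 3 * y + 2 by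
        rw [show 3 * ((2 * x + 1) * (2 * y + 1)) + 1 = 2 * (3 * x * (2 * y + 1) + 3 * y + 2) by ring]
        omega] at hfam
      rw [show (3 * (2 * y + 1) + 1) / 2 = 3 * y + 2 by omega] at hfm
      nlinarith

end CfsgLib.ChainLength
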