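import Cfsg.Agent.ChainLength.Blocks

/-!
# The block family of a doubly transitive group with imprimitive point stabilisers
-/

set_option autoImplicit false

open Finset MulAction

namespace CfsgLib.ChainLength

/-- A block of the stabiliser of one point spreads to a block family. -/
theorem exists_blockFamily {K Ω : Type*} [Group K] [MulAction K Ω] [Fintype Ω] [DecidableEq Ω]
    (X : Finset Ω) (hfix : ∀ k : K, ∀ x ∈ X, k • x = x)
    (h2 : ∀ {a b c d : Ω}, a ∉ X → b ∉ X → c ∉ X → d ∉ X → a ≠ b → c ≠ d →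
      ∃ k : K, k • a = c ∧ k • b = d)
    {x₀ y₀ : Ω} (hx₀ : x₀ ∉ X) (B : Set Ω) (hB : ∀ v ∈ B, v ∉ X ∧ v ≠ x₀) (hy₀ : y₀ ∈ B)
    (hblock : ∀ h : K, h • x₀ = x₀ → ∀ v ∈ B, h • v ∈ B → ∀ u ∈ B, h • u ∈ B) :
    Nonempty (BlockFamily K Ω X B.ncard) := by
  classical
  set R : Ω → Ω → Ω → Prop := fun x y z => ∃ k : K, k • x₀ = x ∧ ∃ u ∈ B, ∃ v ∈ B, k • u = y ∧ k • v = z
    with hR
  have hout : ∀ k : K, ∀ v, v ∉ X → k • v ∉ X := fun k v hv h =>
    hv (smul_left_cancel k (hfix k _ h) ▸ h)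
  have hback : ∀ (g : K) x y z, R x y z → R (g • x) (g • y) (g • z) := by
    rintro g x y z ⟨k, rfl, u, hu, v, hv, rfl, rfl⟩
    exact ⟨g * k, mul_smul g k x₀, u, hu, v, hv, mul_smul g k u, mul_smul g k v⟩
  have hsmul : ∀ (g : K) x y z, R (g • x) (g • y) (g • z) ↔ R x y z := fun g x y z =>
    ⟨fun h => by simpa only [inv_smul_smul] using hback g⁻¹ _ _ _ h, hback g x y z⟩
  have hclass : ∀ k : K, ∀ u ∈ B, {w | R (k • x₀) (k • u) w} = (k • ·) '' B := by
    intro k u hu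
    ext w
    constructor
    · rintro ⟨k', hx, u', hu', v', hv', hy, rfl⟩
      refine ⟨(k⁻¹ * k') • v', hblock _ ?_ u' hu' ?_ v' hv', ?_⟩
      · rw [mul_smul, hx, inv_smul_smul]
      · rw [mul_smul, hy, inv_smul_smul]; exact hu
      · change k • (k⁻¹ * k') • v' = k' • v'
        rw [mul_smul, smul_inv_smul]
    · rintro ⟨v, hv, rfl⟩
      exact ⟨k, rfl, u, hu, v, hv, rfl, rfl⟩
  have hcard : ∀ x y, x ∉ X → y ∉ X → y ≠ x → {w | R x y w}.ncard = B.ncard := by
    intro x y hx hy hne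
    obtain ⟨k, rfl, rfl⟩ := h2 hx₀ (hB y₀ hy₀).1 hx hy (hB y₀ hy₀).2.symm hne.symm
    rw [hclass k y₀ hy₀, Set.ncard_image_of_injective _ (MulAction.injective k)]
  have hrefl : ∀ x y, x ∉ X → y ∉ X → y ≠ x → R x y y := by
    intro x y hx hy hne
    obtain ⟨k, hk1, hk2⟩ := h2 hx₀ (hB y₀ hy₀).1 hx hy (hB y₀ hy₀).2.symm hne.symm
    exact ⟨k, hk1, y₀, hy₀, y₀, hy₀, hk2, hk2⟩
  have hne' : ∀ x y z, R x y z → y ≠ x ∧ z ≠ x := by
    rintro x y z ⟨k, rfl, u, hu, v, hv, rfl, rfl⟩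
    exact ⟨fun h => (hB u hu).2 (smul_left_cancel k h), fun h => (hB v hv).2 (smul_left_cancel k h)⟩
  have hbase : ∀ x y z, R x y z → x ∉ X := by
    rintro x y z ⟨k, rfl, -⟩
    exact hout k x₀ hx₀
  have hclassX : ∀ x y w, R x y w → w ∉ X := by
    rintro x y w ⟨k, -, u, -, v, hv, -, rfl⟩
    exact hout k v (hB v hv).1
  refine ⟨⟨R, hsmul, hbase, hrefl, ?_, hcard, ?_, hne', hclassX⟩⟩
  · rintro x y z w ⟨k, rfl, u, hu, v, hv, rfl, rfl⟩ ⟨k', hx, u', hu', v', hv', rfl, hw⟩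
    refine ⟨k, rfl, u, hu, (k⁻¹ * k') • u', hblock _ ?_ v' hv' ?_ u' hu', rfl, ?_⟩
    · rw [mul_smul, hx, inv_smul_smul]
    · rw [mul_smul, hw, inv_smul_smul]; exact hv
    · rw [mul_smul, smul_inv_smul]
  · intro y z hy hz hyz
    set f := fun z' => (univ.filter fun x => R x y z').card with hf
    set S := Xᶜ.erase y with hS
    have hconst : ∀ z' ∈ S, f z' = f z := by
      intro z' hz'
      obtain ⟨hz'y, hz'X⟩ := mem_erase.1 hz'
      obtain ⟨g, hgy, hgz⟩ := h2 hy hz hy (mem_compl.1 hz'X) hyz (Ne.symm hz'y)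
      refine (Finset.card_bij (fun x _ => g • x) ?_ (fun a _ b _ h => smul_left_cancel g h) ?_).symm
      · intro x hx
        simp only [mem_filter, mem_univ, true_and] at hx ⊢
        rw [← hgy, ← hgz]; exact hback g _ _ _ hx
      · intro x hx
        refine ⟨g⁻¹ • x, ?_, smul_inv_smul g x⟩
        simp only [mem_filter, mem_univ, true_and] at hx ⊢
        rwa [← hsmul g, smul_inv_smul, hgy, hgz]
    have hsum : ∑ z' ∈ S, f z' = S.card * (B.ncard - 1) := by
      simp only [hf, card_filter]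
      rw [Finset.sum_comm, ← Finset.sum_subset (subset_univ S)]
      · rw [← smul_eq_mul, ← Finset.sum_const]
        refine Finset.sum_congr rfl fun x hx => ?_
        obtain ⟨hxy, hxX⟩ := mem_erase.1 hx
        rw [← card_filter, ← hcard x y (mem_compl.1 hxX) hy (Ne.symm hxy),
          ← Set.ncard_sdiff_singleton_of_mem (s := {w | R x y w}) (a := y)
            (hrefl x y (mem_compl.1 hxX) hy (Ne.symm hxy)),
          ← Set.ncard_coe_finset]
        congr 1
        ext w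
        simp only [hS, coe_filter, mem_erase, mem_compl, Set.mem_sdiff, Set.mem_singleton_iff]
        exact ⟨fun h => ⟨h.2, h.1.1⟩, fun h => ⟨⟨h.2, hclassX _ _ _ h.1⟩, h.1⟩⟩
      · intro x _ hx
        refine Finset.sum_eq_zero fun w _ => if_neg fun h => hx (mem_erase.2 ⟨?_, ?_⟩)
        · exact fun e => (hne' _ _ _ h).1 e.symm
        · exact mem_compl.2 (hbase _ _ _ h)
    rw [Finset.sum_congr rfl hconst, Finset.sum_const, smul_eq_mul] at hsum
    have hzS : z ∈ S := mem_erase.2 ⟨hyz.symm, mem_compl.2 hz⟩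
    have := Nat.eq_of_mul_eq_mul_left (card_pos.2 ⟨z, hzS⟩) hsum
    rw [← this]
    simp only [hf]
    rw [← Set.ncard_coe_finset]
    congr 1
    ext x
    simp

end CfsgLib.ChainLength
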