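import Cfsg.Agent.ChainLength.Separation

/-!
# The order bound when the point stabiliser of a doubly transitive group is imprimitive

`R x y z` says that `y` and `z` lie in one block of the stabiliser of `x`.  A set of about `3 √m` points
gives colours that separate any two points by at least `2 √m` witnesses.
-/

set_option autoImplicit false

open Finset Real

namespace CfsgLib.ChainLength

/-- Fixing `S` pointwise loses at most a factor `n ^ #S`. -/
theorem card_le_pow_mul_fixing {G Ω : Type*} [Group G] [Finite G] [MulAction G Ω] [Fintype Ω]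
    (S : Finset Ω) :
    Nat.card G ≤ Fintype.card Ω ^ S.card * Nat.card (fixingSubgroup G (S : Set Ω)) := by
  classical
  have hst : MulAction.stabilizer G (fun s : S => (s : Ω)) = fixingSubgroup G (S : Set Ω) := by
    ext g
    simp [MulAction.mem_stabilizer_iff, mem_fixingSubgroup_iff, funext_iff]
  have h := Nat.card_congr (MulAction.orbitProdStabilizerEquivGroup G (fun s : S => (s : Ω)))
  rw [Nat.card_prod, hst] at h
  rw [← h]
  refine Nat.mul_le_mul_right _ ?_
  refine (Nat.card_le_card_of_injective _ Subtype.val_injective).trans ?_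
  rw [Nat.card_pi, Finset.prod_const, Finset.card_univ, Fintype.card_coe, Nat.card_eq_fintype_card]

theorem log_card_le_mul_add {G Ω : Type*} [Group G] [Finite G] [MulAction G Ω] [Fintype Ω]
    (S : Finset Ω) (hn : 0 < Fintype.card Ω) :
    log (Nat.card G) ≤ S.card * log (Fintype.card Ω) + log (Nat.card (fixingSubgroup G (S : Set Ω))) := by
  have hn' : (0 : ℝ) < Fintype.card Ω := by exact_mod_cast hn
  rw [← log_pow, ← log_mul (by positivity) (by exact_mod_cast Nat.card_pos.ne')]
  exact log_le_log (by exact_mod_cast Nat.card_pos) (by exact_mod_cast card_le_pow_mul_fixing S)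

/-- Block systems of the point stabilisers on the complement of a fixed set. -/
structure BlockFamily (G Ω : Type*) [Group G] [MulAction G Ω] [Fintype Ω] [DecidableEq Ω]
    (X : Finset Ω) (a : ℕ) where
  /-- `y` and `z` lie in one block of the stabiliser of `x`. -/
  R : Ω → Ω → Ω → Prop
  smul_iff : ∀ (g : G) (x y z : Ω), R (g • x) (g • y) (g • z) ↔ R x y z
  base_not_mem : ∀ x y z, R x y z → x ∉ X
  refl : ∀ x y, x ∉ X → y ∉ X → y ≠ x → R x y y
  trans : ∀ x y z w, R x y w → R x z w → R x y z
  card_class : ∀ x y, x ∉ X → y ∉ X → y ≠ x → {w | R x y w}.ncard = a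
  card_base : ∀ y z, y ∉ X → z ∉ X → y ≠ z → {x | R x y z}.ncard = a - 1
  base_ne : ∀ x y z, R x y z → y ≠ x ∧ z ≠ x
  class_not_mem : ∀ x y w, R x y w → w ∉ X

variable {G Ω : Type*} [Group G] [MulAction G Ω] [Fintype Ω] [DecidableEq Ω] {X : Finset Ω} {a : ℕ}

open Classical in
/-- A few points such that every pair lies in different blocks for one of them. -/
theorem BlockFamily.exists_good (B : BlockFamily G Ω X a) (ha : 2 * a ≤ Xᶜ.card) (hX : 0 < Xᶜ.card)
    (k : ℕ) :
    ∃ S : Finset Ω, S ⊆ Xᶜ ∧ S.card ≤ k ∧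
      (Xᶜ.offDiag.filter fun p => ∀ x ∈ S, B.R x p.1 p.2).card * 2 ^ k ≤ Xᶜ.card ^ 2 := by
  induction k with
  | zero =>
    refine ⟨∅, Finset.empty_subset _, le_rfl, ?_⟩
    rw [pow_zero, mul_one]
    refine (Finset.card_filter_le _ _).trans ?_
    rw [Finset.offDiag_card, sq]
    exact Nat.sub_le _ _
  | succ k ih =>
    obtain ⟨S, hS, hSk, hbad⟩ := ih
    set T := Xᶜ.offDiag.filter fun p => ∀ x ∈ S, B.R x p.1 p.2 with hT
    set m := Xᶜ.card with hm
    have hsum : ∑ x ∈ Xᶜ, (T.filter fun p => B.R x p.1 p.2).card = T.card * (a - 1) := by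
      simp only [Finset.card_filter]
      rw [Finset.sum_comm]
      rw [← smul_eq_mul, ← Finset.sum_const]
      refine Finset.sum_congr rfl fun p hp => ?_
      obtain ⟨hy, hz, hne⟩ := Finset.mem_offDiag.1 (Finset.mem_filter.1 hp).1
      rw [← Finset.card_filter, ← B.card_base p.1 p.2 (Finset.mem_compl.1 hy) (Finset.mem_compl.1 hz) hne,
        ← Set.ncard_coe_finset]
      congr 1
      ext x
      simp only [Finset.coe_filter, Finset.mem_compl, Set.mem_setOf_eq, and_iff_right_iff_imp]
      exact B.base_not_mem x _ _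
    obtain ⟨x, hx, hmin⟩ := Finset.exists_min_image Xᶜ (fun x => (T.filter fun p => B.R x p.1 p.2).card)
      (Finset.card_pos.1 hX)
    refine ⟨insert x S, Finset.insert_subset hx hS, (Finset.card_insert_le _ _).trans (by omega), ?_⟩
    have h1 := Finset.card_nsmul_le_sum _ _ _ hmin
    rw [smul_eq_mul, hsum, ← hm] at h1
    have heq : (Xᶜ.offDiag.filter fun p => ∀ y ∈ insert x S, B.R y p.1 p.2) =
        T.filter fun p => B.R x p.1 p.2 := by
      rw [hT, Finset.filter_filter]
      refine Finset.filter_congr fun p _ => ?_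
      simp only [Finset.forall_mem_insert]
      exact and_comm
    rw [heq]
    set c := (T.filter fun p => B.R x p.1 p.2).card
    have h2 : T.card * (a - 1) * 2 ≤ T.card * m := by
      rw [mul_assoc]; exact Nat.mul_le_mul_left _ (by omega)
    have h3 : c * 2 ≤ T.card := Nat.le_of_mul_le_mul_left (by nlinarith : m * (c * 2) ≤ m * T.card) hX
    calc c * 2 ^ (k + 1) = c * 2 * 2 ^ k := by ring
      _ ≤ T.card * 2 ^ k := Nat.mul_le_mul_right _ h3
      _ ≤ m ^ 2 := hbad

variable [Finite G] [FaithfulSMul G Ω]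

/-- The bound from a set `S` whose block colours give `D` witnesses for each pair. -/
theorem BlockFamily.log_card_le_of (B : BlockFamily G Ω X a) (hfix : ∀ (g : G), ∀ x ∈ X, g • x = x)
    (S : Finset Ω) {D : ℕ} (hD1 : 1 ≤ D) (hDn : D ≤ Fintype.card Ω)
    (hD : ∀ y z, y ∉ X → z ∉ X → y ∉ S → z ∉ S → y ≠ z →
      D ≤ {w | ∃ x ∈ S, ¬ B.R x y z ∧ (B.R x y w ∨ B.R x z w)}.ncard) :
    log (Nat.card G) ≤ S.card * log (Fintype.card Ω) + ((Fintype.card Ω : ℝ) / D *
      ((log (Fintype.card Ω)) ^ 2 / 2 + 2) + log (Fintype.card Ω) / 2 + 4) := by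
  classical
  refine (log_card_le_mul_add S (lt_of_lt_of_le hD1 hDn)).trans (add_le_add le_rfl ?_)
  have : FaithfulSMul (fixingSubgroup G (S : Set Ω)) Ω :=
    ⟨fun {g h} hgh => Subtype.ext (eq_of_smul_eq_smul (α := Ω) fun y => hgh y)⟩
  refine log_card_le_of_separated
    (c := fun w y => ((if y ∈ X ∪ S then some y else none : Option Ω), fun x : S => B.R x y w)) ?_ hD1 ?_
  · rintro ⟨g, hg⟩ w y
    rw [mem_fixingSubgroup_iff] at hg
    have hfx : ∀ u ∈ X ∪ S, g • u = u := fun u hu =>
      (Finset.mem_union.1 hu).elim (hfix g u) (hg u)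
    refine Prod.ext ?_ (funext fun x => propext ?_)
    · change (if g • y ∈ X ∪ S then some (g • y) else none) = _
      by_cases hy : y ∈ X ∪ S
      · rw [hfx y hy, if_pos hy]
      · rw [if_neg hy, if_neg fun h => hy ?_]
        have := hfx _ h
        rw [smul_left_cancel_iff] at this
        rwa [← this]
    · have h := B.smul_iff g x y w
      rw [hg x x.2] at h
      exact h
  · intro y z hyz
    by_cases h : y ∈ X ∪ S ∨ z ∈ X ∪ S
    · refine hDn.trans (le_of_eq ?_)
      rw [← Finset.card_univ, Finset.filter_true_of_mem]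
      intro w _ he
      have he1 := congrArg Prod.fst he
      rcases h with h | h <;> simp only [if_pos h] at he1 <;> split_ifs at he1 <;>
        first | exact hyz (Option.some_injective _ he1) | simp at he1
    · simp only [not_or, Finset.mem_union] at h
      refine (hD y z h.1.1 h.2.1 h.1.2 h.2.2 hyz).trans ?_
      rw [← Set.ncard_coe_finset]
      refine Set.ncard_le_ncard ?_ (Finset.finite_toSet _)
      rintro w ⟨x, hx, hn, hw⟩
      simp only [Finset.coe_filter, Finset.mem_univ, true_and, Set.mem_setOf_eq]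
      intro he
      have he2 := congrFun (congrArg Prod.snd he) ⟨x, hx⟩
      simp only [eq_iff_iff] at he2
      rcases hw with hw | hw
      · exact hn (B.trans x y z w hw (he2.1 hw))
      · exact hn (B.trans x y z w (he2.2 hw) hw)

open Classical in
/-- Small blocks: any `a - 1 + D` points will do. -/
theorem BlockFamily.witness_small (B : BlockFamily G Ω X a) (ha : 2 ≤ a) {S : Finset Ω} (hS : S ⊆ Xᶜ)
    {D : ℕ} (hSD : a - 1 + D ≤ S.card) {y z : Ω} (hy : y ∉ X) (hz : z ∉ X) (hyS : y ∉ S) (hyz : y ≠ z) :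
    D ≤ {w | ∃ x ∈ S, ¬ B.R x y z ∧ (B.R x y w ∨ B.R x z w)}.ncard := by
  set S' := S.filter fun x => ¬ B.R x y z with hS'
  have hgood : D ≤ S'.card := by
    have h1 := Finset.card_filter_add_card_filter_not (s := S) (fun x => B.R x y z)
    have h2 : (S.filter fun x => B.R x y z).card ≤ a - 1 := by
      rw [← B.card_base y z hy hz hyz, ← Set.ncard_coe_finset]
      exact Set.ncard_le_ncard (fun x hx => (Finset.mem_filter.1 hx).2) (Set.toFinite _)
    rw [hS']; omega
  set W : Finset Ω := univ.filter fun w => ∃ x ∈ S', B.R x y w with hW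
  have hyW : ∀ x ∈ S', y ≠ x := fun x hx h => hyS (h ▸ (Finset.mem_filter.1 hx).1)
  have hcount : S'.card * a ≤ S'.card + (W.erase y).card * (a - 1) := by
    calc S'.card * a = ∑ x ∈ S', ({w | B.R x y w} : Finset Ω).card := by
          rw [← smul_eq_mul, ← Finset.sum_const]
          refine Finset.sum_congr rfl fun x hx => ?_
          have hxX : x ∉ X := Finset.mem_compl.1 (hS (Finset.mem_filter.1 hx).1)
          refine (B.card_class x y hxX hy (hyW x hx)).symm.trans ?_
          rw [← Set.ncard_coe_finset]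
          congr 1; ext w; simp
      _ = ∑ x ∈ S', (1 + ((W.erase y).filter fun w => B.R x y w).card) := by
          refine Finset.sum_congr rfl fun x hx => ?_
          have hxX : x ∉ X := Finset.mem_compl.1 (hS (Finset.mem_filter.1 hx).1)
          have hm : y ∈ ({w | B.R x y w} : Finset Ω) := by simpa using B.refl x y hxX hy (hyW x hx)
          rw [← Finset.card_erase_add_one hm, add_comm]
          congr 2
          ext w
          simp only [hW, Finset.mem_erase, Finset.mem_filter, Finset.mem_univ, true_and]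
          exact ⟨fun h => ⟨⟨h.1, x, hx, h.2⟩, h.2⟩, fun h => ⟨h.1.1, h.2⟩⟩
      _ = S'.card + ∑ w ∈ W.erase y, (S'.filter fun x => B.R x y w).card := by
          rw [Finset.sum_add_distrib, Finset.sum_const, smul_eq_mul, mul_one]
          simp only [Finset.card_filter]
          rw [Finset.sum_comm]
      _ ≤ _ := by
          refine add_le_add le_rfl ?_
          rw [← smul_eq_mul, ← Finset.sum_const]
          refine Finset.sum_le_sum fun w hw => ?_
          obtain ⟨hwy, hw'⟩ := Finset.mem_erase.1 hw
          obtain ⟨x₀, hx₀, hR⟩ := (Finset.mem_filter.1 hw').2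
          rw [← B.card_base y w hy (B.class_not_mem _ _ _ hR) (Ne.symm hwy), ← Set.ncard_coe_finset]
          exact Set.ncard_le_ncard (fun x hx => (Finset.mem_filter.1 hx).2) (Set.toFinite _)
  have h4 : S'.card ≤ (W.erase y).card := by
    refine Nat.le_of_mul_le_mul_right ?_ (by omega : 0 < a - 1)
    rw [Nat.mul_sub_one]; omega
  refine le_trans ?_ (Set.ncard_le_ncard (s := (W : Set Ω)) ?_ (Set.toFinite _))
  · rw [Set.ncard_coe_finset]
    exact hgood.trans (h4.trans (Finset.card_erase_le))
  · intro w hw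
    obtain ⟨x, hx, hR⟩ := (Finset.mem_filter.1 hw).2
    exact ⟨x, (Finset.mem_filter.1 hx).1, (Finset.mem_filter.1 hx).2, Or.inl hR⟩

end CfsgLib.ChainLength
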