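import Mathlib

/-!
# The length of the longest subgroup chain
-/

set_option autoImplicit false

open ArithmeticFunction

namespace CfsgLib.ChainLength

variable {G Q : Type*} [Group G] [Group Q]

/-- The length of the longest chain of subgroups below `H`. -/
noncomputable def len (H : Subgroup G) : ℕ :=
  sSup {j | ∃ c : Fin (j + 1) → Subgroup G, StrictAnti c ∧ c 0 ≤ H}

theorem bddAbove_chain [Finite G] (H : Subgroup G) :
    BddAbove {j | ∃ c : Fin (j + 1) → Subgroup G, StrictAnti c ∧ c 0 ≤ H} := by
  refine ⟨Nat.card (Subgroup G), ?_⟩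
  rintro j ⟨c, hc, -⟩
  have := Nat.card_le_card_of_injective c hc.injective
  rw [Nat.card_eq_fintype_card, Fintype.card_fin] at this
  omega

theorem le_len [Finite G] {H : Subgroup G} {j : ℕ} {c : Fin (j + 1) → Subgroup G} (hc : StrictAnti c)
    (h0 : c 0 ≤ H) : j ≤ len H :=
  le_csSup (bddAbove_chain H) ⟨c, hc, h0⟩

theorem exists_chain [Finite G] (H : Subgroup G) :
    ∃ c : Fin (len H + 1) → Subgroup G, StrictAnti c ∧ c 0 ≤ H :=
  Nat.sSup_mem (s := {j | ∃ c : Fin (j + 1) → Subgroup G, StrictAnti c ∧ c 0 ≤ H})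
    ⟨0, fun _ => H, fun i j h => absurd h (by omega), le_rfl⟩ (bddAbove_chain H)

theorem len_mono [Finite G] {H K : Subgroup G} (h : H ≤ K) : len H ≤ len K := by
  obtain ⟨c, hc, h0⟩ := exists_chain H
  exact le_len hc (h0.trans h)

theorem len_lt [Finite G] {H K : Subgroup G} (h : K < H) : len K + 1 ≤ len H := by
  obtain ⟨c, hc, h0⟩ := exists_chain K
  refine le_len (c := Fin.cons H c) (Fin.strictAnti_iff_succ_lt.2 fun i => ?_) (by simp)
  induction i using Fin.cases with
  | zero => simpa using lt_of_le_of_lt h0 h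
  | succ i => simpa [Fin.castSucc_succ] using Fin.strictAnti_iff_succ_lt.1 hc i

theorem len_le_of_strict [Finite G] (φ : Subgroup G → ℕ) {H : Subgroup G}
    (hφ : ∀ K L, L ≤ H → K < L → φ K < φ L) : len H ≤ φ H := by
  obtain ⟨c, hc, h0⟩ := exists_chain H
  have hle : ∀ i, c i ≤ H := fun i => (hc.antitone (Fin.zero_le i)).trans h0
  have h : ∀ i : Fin (len H + 1), φ (c i) + i.val ≤ φ (c 0) := by
    intro i
    induction i using Fin.induction with
    | zero => simp
    | succ i ih =>
      have := hφ _ _ (hle i.castSucc) (Fin.strictAnti_iff_succ_lt.1 hc i)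
      simp only [Fin.val_castSucc] at ih
      simp only [Fin.val_succ]
      omega
  have h1 := h (Fin.last _)
  rcases h0.lt_or_eq with h2 | h2
  · have := hφ _ _ le_rfl h2
    simp only [Fin.val_last] at h1
    omega
  · rw [h2] at h1
    simp only [Fin.val_last] at h1
    omega

theorem exists_pred [Finite G] {H : Subgroup G} (h : len H ≠ 0) : ∃ K < H, len K + 1 = len H := by
  obtain ⟨k, hk⟩ : ∃ k, len H = k + 1 := ⟨len H - 1, by omega⟩
  have hex := exists_chain H
  rw [hk] at hex
  obtain ⟨c, hc, h0⟩ := hex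
  have hlt : c 1 < H := lt_of_lt_of_le (hc (by simp)) h0
  refine ⟨c 1, hlt, ?_⟩
  have h1 : k ≤ len (c 1) := le_len (c := fun i => c i.succ)
    (fun i j hij => hc (Fin.succ_lt_succ_iff.2 hij)) (by simp)
  have := len_lt hlt
  omega

theorem len_bot [Finite G] : len (⊥ : Subgroup G) = 0 :=
  Nat.eq_zero_of_le_zero (len_le_of_strict (fun _ => 0) fun K L hL hK => absurd (hL.trans bot_le) hK.not_ge)

theorem len_map_le [Finite G] [Finite Q] (f : G →* Q) (H : Subgroup G) : len (H.map f) ≤ len H := by
  have h := len_le_of_strict (H := H.map f) (fun K => len (K.comap f ⊓ H)) fun K L hL hK => by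
    refine len_lt (lt_of_le_of_ne (inf_le_inf_right _ (Subgroup.comap_mono hK.le)) fun he => hK.ne ?_)
    refine le_antisymm hK.le fun x hx => ?_
    obtain ⟨y, hy, rfl⟩ := hL hx
    have : y ∈ L.comap f ⊓ H := ⟨hx, hy⟩
    rw [← he] at this
    exact this.1
  exact h.trans (len_mono inf_le_right)

theorem len_map_eq [Finite G] [Finite Q] {f : G →* Q} (hf : Function.Injective f) (H : Subgroup G) :
    len (H.map f) = len H := by
  refine le_antisymm (len_map_le f H) (len_le_of_strict (fun K => len (K.map f)) fun K L _ hK => ?_)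
  exact len_lt (lt_of_le_of_ne (Subgroup.map_mono hK.le) fun he => hK.ne (Subgroup.map_injective hf he))

theorem len_le_inf_ker_add [Finite G] [Finite Q] (f : G →* Q) (H : Subgroup G) :
    len H ≤ len (H ⊓ f.ker) + len (H.map f) := by
  refine len_le_of_strict (fun K => len (K ⊓ f.ker) + len (K.map f)) fun K L _ hK => ?_
  have h1 : K ⊓ f.ker ≤ L ⊓ f.ker := inf_le_inf_right _ hK.le
  have h2 : K.map f ≤ L.map f := Subgroup.map_mono hK.le
  have m1 := len_mono h1
  have m2 := len_mono h2
  rcases h1.lt_or_eq with h | h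
  · have := len_lt h; omega
  rcases h2.lt_or_eq with h' | h'
  · have := len_lt h'; omega
  refine absurd (le_antisymm hK.le fun x hx => ?_) hK.ne
  obtain ⟨k, hk, hkx⟩ : f x ∈ K.map f := h' ▸ Subgroup.mem_map_of_mem f hx
  have : k⁻¹ * x ∈ L ⊓ f.ker := Subgroup.mem_inf.2
    ⟨L.mul_mem (L.inv_mem (hK.le hk)) hx, by rw [MonoidHom.mem_ker, map_mul, map_inv, hkx, inv_mul_cancel]⟩
  rw [← h] at this
  exact (mul_inv_cancel_left k x) ▸ K.mul_mem hk (Subgroup.mem_inf.1 this).1

theorem inf_ker_add_le_len [Finite G] [Finite Q] (f : G →* Q) (H : Subgroup G) :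
    len (H ⊓ f.ker) + len (H.map f) ≤ len H := by
  induction h : len (H.map f) generalizing H with
  | zero => rw [Nat.add_zero]; exact len_mono inf_le_left
  | succ k ih =>
    obtain ⟨P, hP, hPk⟩ := exists_pred (H := H.map f) (by omega)
    set K := P.comap f ⊓ H with hK
    have hmap : K.map f = P := by
      refine le_antisymm (Subgroup.map_le_iff_le_comap.2 inf_le_left) fun x hx => ?_
      obtain ⟨y, hy, rfl⟩ := hP.le hx
      exact ⟨y, ⟨hx, hy⟩, rfl⟩
    have hker : K ⊓ f.ker = H ⊓ f.ker := by
      refine le_antisymm (inf_le_inf_right _ inf_le_right) fun x hx => ?_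
      obtain ⟨hxH, hxk⟩ := Subgroup.mem_inf.1 hx
      refine Subgroup.mem_inf.2 ⟨Subgroup.mem_inf.2 ⟨?_, hxH⟩, hxk⟩
      rw [Subgroup.mem_comap, MonoidHom.mem_ker.1 hxk]
      exact P.one_mem
    have hlt : K < H := lt_of_le_of_ne inf_le_right fun he => hP.ne (by rw [← hmap, he])
    have h1 := ih K (by rw [hmap]; omega)
    rw [hker] at h1
    have := len_lt hlt
    omega

theorem len_le_cardFactors [Finite G] (H : Subgroup G) : len H ≤ cardFactors (Nat.card H) := by
  refine len_le_of_strict (fun K => cardFactors (Nat.card K)) fun K L _ hK => ?_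
  obtain ⟨c, hc⟩ := Subgroup.card_dvd_of_le hK.le
  have hc1 : 1 < c := by
    by_contra hc1
    interval_cases c
    · simp [Nat.card_pos.ne'] at hc
    · exact hK.ne (Subgroup.eq_of_le_of_card_ge hK.le (by omega))
  rw [hc, cardFactors_mul Nat.card_pos.ne' (by omega)]
  have := cardFactors_pos_iff_one_lt.2 hc1
  omega

theorem len_top_congr {G Q : Type*} [Group G] [Group Q] [Finite G] (e : G ≃* Q) :
    len (⊤ : Subgroup G) = len (⊤ : Subgroup Q) := by
  have : Finite Q := Finite.of_equiv G e.toEquiv
  rw [← len_map_eq (f := e.toMonoidHom) e.injective ⊤, Subgroup.map_top_of_surjective _ e.surjective]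

theorem len_top_subgroup [Finite G] (H : Subgroup G) : len (⊤ : Subgroup H) = len H := by
  rw [← len_map_eq (f := H.subtype) H.subtype_injective, ← MonoidHom.range_eq_map, Subgroup.range_subtype]

/-- A family of homomorphisms bounds the length modulo the common kernel. -/
theorem len_le_sum [Finite G] {ι : Type*} (s : Finset ι) {Qs : ι → Type*} [∀ i, Group (Qs i)]
    [∀ i, Finite (Qs i)] (f : ∀ i, G →* Qs i) (B : ι → ℕ) (hB : ∀ i ∈ s, len (⊤ : Subgroup (Qs i)) ≤ B i)
    (H : Subgroup G) (hker : ∀ g ∈ H, (∀ i ∈ s, f i g = 1) → g = 1) : len H ≤ ∑ i ∈ s, B i := by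
  classical
  induction s using Finset.induction_on generalizing H with
  | empty =>
    have : H = ⊥ := (Subgroup.eq_bot_iff_forall _).2 fun g hg => hker g hg (by simp)
    simp [this, len_bot]
  | insert a s ha ih =>
    rw [Finset.sum_insert ha]
    have h1 := len_le_inf_ker_add (f a) H
    have h2 := ih (fun i hi => hB i (Finset.mem_insert_of_mem hi)) (H ⊓ (f a).ker) fun g hg hall =>
      hker g (Subgroup.mem_inf.1 hg).1 fun i hi => by
        rcases Finset.mem_insert.1 hi with rfl | hi
        · exact (Subgroup.mem_inf.1 hg).2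
        · exact hall i hi
    have h3 := (len_mono (le_top : H.map (f a) ≤ ⊤)).trans (hB a (Finset.mem_insert_self a s))
    omega

/-- The length of a symmetric group depends only on the degree. -/
theorem len_perm_congr {α : Type*} [Finite α] {m : ℕ} (h : Nat.card α = m) :
    len (⊤ : Subgroup (Equiv.Perm α)) = len (⊤ : Subgroup (Equiv.Perm (Fin m))) :=
  len_top_congr ((Finite.equivFinOfCardEq h).permCongrHom)

end CfsgLib.ChainLength
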