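import Mathlib

/-!
# Miller's bound on multiple transitivity

If `n = q * p + r` with `p` prime, `1 ≤ q < p`, `q < r` and `5 ≤ r`, then a primitive group of degree `n`
which is `(r + 1)`-fold transitive contains the alternating group.
-/

set_option autoImplicit false

open MulAction Subgroup
open scoped Pointwise commutatorElement

namespace CfsgLib.ChainLength

/-- A group normalizing a transitive group of prime order is metabelian. -/
theorem commutator_commutator_eq_bot {α : Type*} {C M : Subgroup (Equiv.Perm α)} {p : ℕ} [Fact p.Prime]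
    (hC : Nat.card C = p) (hM : M ≤ normalizer (C : Set (Equiv.Perm α)))
    (htr : ∀ x y : α, ∃ c ∈ C, c x = y) : ⁅⁅M, M⁆, ⁅M, M⁆⁆ = ⊥ := by
  have : IsCyclic C := isCyclic_of_prime_card hC
  have hcomm : ∀ a ∈ C, ∀ b ∈ C, a * b = b * a := fun a ha b hb =>
    congrArg Subtype.val ((IsCyclic.commGroup (α := C)).mul_comm ⟨a, ha⟩ ⟨b, hb⟩)
  have h1 : ⁅M, M⁆ ≤ centralizer (C : Set (Equiv.Perm α)) := by
    rw [Subgroup.commutator_le]
    intro a ha b hb
    have hker : ⁅(⟨a, hM ha⟩ : normalizer (C : Set (Equiv.Perm α))), ⟨b, hM hb⟩⁆ ∈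
        C.normalizerMonoidHom.ker := by
      rw [MonoidHom.mem_ker, map_commutatorElement, commutatorElement_eq_one_iff_mul_comm]
      apply (IsCyclic.mulAutMulEquiv C).injective
      rw [map_mul, map_mul]
      exact mul_comm _ _
    rw [normalizerMonoidHom_ker, mem_subgroupOf] at hker
    exact hker
  rw [Subgroup.commutator_eq_bot_iff_le_centralizer]
  intro g hg
  rw [mem_centralizer_iff]
  intro h hh
  ext x
  obtain ⟨a, haC, ha⟩ := htr x (g x)
  obtain ⟨b, hbC, hb⟩ := htr x (h x)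
  have hga := mem_centralizer_iff.1 (h1 hg) b hbC
  have hha := mem_centralizer_iff.1 (h1 hh) a haC
  simp only [Equiv.Perm.mul_apply]
  rw [← ha, ← hb, ← Equiv.Perm.mul_apply, ← hha, Equiv.Perm.mul_apply, ← hb, ← Equiv.Perm.mul_apply g b,
    ← hga, Equiv.Perm.mul_apply, ← ha, ← Equiv.Perm.mul_apply, ← Equiv.Perm.mul_apply, hcomm a haC b hbC]

variable {G Ω : Type*} [Group G] [Finite G] [MulAction G Ω] [Fintype Ω] [DecidableEq Ω]

/-- Miller's theorem. -/
theorem alternatingGroup_le_of_isMultiplyPretransitive {p q r : ℕ} (hp : p.Prime)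
    (hn : Fintype.card Ω = q * p + r) (hq1 : 1 ≤ q) (hqp : q < p) (hqr : q < r) (hr : 5 ≤ r)
    (hprim : IsPreprimitive G Ω) (hk : IsMultiplyPretransitive G Ω (r + 1)) :
    alternatingGroup Ω ≤ (toPermHom G Ω).range := by
  classical
  have : Fact p.Prime := ⟨hp⟩
  have hqp0 : 0 < q * p := Nat.mul_pos hq1 hp.pos
  have hkr : IsMultiplyPretransitive G Ω r := isMultiplyPretransitive_of_le (n := r + 1) (by omega)
    (by rw [Nat.card_eq_fintype_card]; omega)
  obtain ⟨X, -, hXr⟩ := Finset.exists_subset_card_eq (s := (Finset.univ : Finset Ω)) (n := r)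
    (by rw [Finset.card_univ]; omega)
  let G₁ := stabilizer G (X : Set Ω)
  have hinv : ∀ g : G₁, ∀ x, g • x ∈ X ↔ x ∈ X := by
    rintro ⟨g, hg⟩ x
    have hg' : g • (X : Set Ω) = X := hg
    change g • x ∈ X ↔ x ∈ X
    conv_lhs => rw [← Finset.mem_coe, ← hg', Set.smul_mem_smul_set_iff]
    rfl
  let sX : SubMulAction G₁ Ω :=
    { carrier := (X : Set Ω), smul_mem' := fun g x hx => (hinv g x).2 hx }
  have hmemX : ∀ x : Ω, x ∈ sX ↔ x ∈ X := fun x => Iff.rfl
  have hcardX : Nat.card sX = r := by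
    rw [← hXr, ← Nat.card_eq_finsetCard]
    exact Nat.card_congr (Equiv.subtypeEquivRight hmemX)
  let φ : G₁ →* Equiv.Perm sX := toPermHom G₁ sX
  have hker : ∀ g : G₁, g ∈ φ.ker ↔ ∀ x ∈ X, g • x = x := by
    intro g
    rw [MonoidHom.mem_ker, Equiv.ext_iff]
    exact ⟨fun h x hx => congrArg Subtype.val (h ⟨x, hx⟩), fun h x => Subtype.ext (h x x.2)⟩
  -- the kernel is transitive outside `X`
  have htr : ∀ x y, x ∉ X → y ∉ X → ∃ g ∈ φ.ker, g • x = y := by
    intro x y hx hy
    have h1 := SubMulAction.ofFixingSubgroup.isMultiplyPretransitive G (X : Set Ω) (m := 1)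
      (n := r + 1) (by rw [Set.ncard_coe_finset, hXr])
    rw [is_one_pretransitive_iff] at h1
    obtain ⟨⟨g, hg⟩, hgxy⟩ := h1.exists_smul_eq ⟨x, hx⟩ ⟨y, hy⟩
    have hg' : g ∈ G₁ := by
      change g • (X : Set Ω) = X
      refine Set.eq_of_subset_of_ncard_le ?_ (by rw [Set.ncard_smul_set]) (Set.toFinite _)
      rintro _ ⟨z, hz, rfl⟩
      change g • z ∈ X
      rw [(mem_fixingSubgroup_iff G).1 hg z hz]
      exact hz
    exact ⟨⟨g, hg'⟩, (hker _).2 fun z hz => (mem_fixingSubgroup_iff G).1 hg z hz,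
      congrArg Subtype.val hgxy⟩
  -- every permutation of `X` occurs
  have hsurj : Function.Surjective φ := by
    intro σ
    have e : Fin r ≃ sX := (Fin.castOrderIso hcardX.symm).toEquiv.trans (Finite.equivFin sX).symm
    obtain ⟨g, hg⟩ := hkr.exists_smul_eq (e.toEmbedding.trans (Function.Embedding.subtype _))
      ((e.trans σ).toEmbedding.trans (Function.Embedding.subtype _))
    have hgx : ∀ z : sX, g • (z : Ω) = σ z := by
      intro z
      obtain ⟨i, rfl⟩ := e.surjective z
      exact congrArg (fun f : Fin r ↪ Ω => f i) hg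
    have hg' : g ∈ G₁ := by
      change g • (X : Set Ω) = X
      refine Set.eq_of_subset_of_ncard_le ?_ (by rw [Set.ncard_smul_set]) (Set.toFinite _)
      rintro _ ⟨z, hz, rfl⟩
      change g • z ∈ X
      exact (hgx ⟨z, hz⟩).symm ▸ (σ ⟨z, hz⟩).2
    exact ⟨⟨g, hg'⟩, Equiv.ext fun z => Subtype.ext (hgx z)⟩
  obtain ⟨P⟩ : Nonempty (Sylow p φ.ker) := inferInstance
  let Q : Subgroup G₁ := (P : Subgroup φ.ker).map φ.ker.subtype
  have hQker : Q ≤ φ.ker := Subgroup.map_subtype_le _
  have hQp : IsPGroup p Q := P.2.map _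
  have horb : ∀ x, x ∉ X → (orbit Q x).ncard = p := by
    intro x hx
    have ho : orbit Q x = orbit (P : Subgroup φ.ker) x := by
      ext y
      simp only [mem_orbit_iff]
      constructor
      · rintro ⟨⟨_, k, hk, rfl⟩, rfl⟩; exact ⟨⟨k, hk⟩, rfl⟩
      · rintro ⟨⟨k, hk⟩, rfl⟩; exact ⟨⟨_, k, hk, rfl⟩, rfl⟩
    have hK : orbit φ.ker x = ((Xᶜ : Finset Ω) : Set Ω) := by
      ext y
      rw [Finset.coe_compl, Set.mem_compl_iff, Finset.mem_coe]
      constructor
      · rintro ⟨⟨g, hg⟩, rfl⟩; exact fun h => hx ((hinv g x).1 h)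
      · intro hy
        obtain ⟨g, hg, rfl⟩ := htr x y hx hy
        exact ⟨⟨g, hg⟩, rfl⟩
    have hKcard : (orbit φ.ker x).ncard = q * p := by
      rw [hK, Set.ncard_coe_finset, Finset.card_compl, hXr, hn, Nat.add_sub_cancel]
    have hle : (stabilizer (P : Subgroup φ.ker) x).map (P : Subgroup φ.ker).subtype ≤
        stabilizer φ.ker x := by
      rintro _ ⟨k, hk, rfl⟩; exact hk
    have hd := Subgroup.index_dvd_of_le hle
    rw [Subgroup.index_map_subtype, index_stabilizer, index_stabilizer, hKcard] at hd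
    have hpdvd : p ∣ (orbit (P : Subgroup φ.ker) x).ncard :=
      (hp.dvd_mul.1 ((Dvd.intro_left q rfl).trans hd)).resolve_right P.not_dvd_index
    obtain ⟨k, hk⟩ := P.2.card_orbit (α := Ω) x
    rw [Nat.card_coe_set_eq] at hk
    have hlt : (orbit (P : Subgroup φ.ker) x).ncard < p ^ 2 := by
      have hsub : orbit (P : Subgroup φ.ker) x ⊆ orbit φ.ker x := by
        rintro _ ⟨k, rfl⟩; exact ⟨k, rfl⟩
      have := (Set.ncard_le_ncard hsub (Set.toFinite _)).trans hKcard.le
      nlinarith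
    rw [hk] at hlt hpdvd
    have h2 : k < 2 := (Nat.pow_lt_pow_iff_right hp.one_lt).1 hlt
    have h0 : k ≠ 0 := by
      rintro rfl
      exact hp.not_dvd_one (by simpa using hpdvd)
    rw [ho, hk, (by omega : k = 1), pow_one]
  -- the normalizer still induces every permutation of `X`
  let N : Subgroup G₁ := normalizer (Q : Set G₁)
  let φN : N →* Equiv.Perm sX := φ.comp N.subtype
  have hφN : Function.Surjective φN := by
    rw [← MonoidHom.range_eq_top]
    have h := congrArg (Subgroup.map φ) (Sylow.normalizer_sup_eq_top P)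
    rw [Subgroup.map_sup, (Subgroup.map_eq_bot_iff _).2 le_rfl, sup_bot_eq,
      ← MonoidHom.range_eq_map, MonoidHom.range_eq_top.2 hsurj] at h
    rw [MonoidHom.range_comp, Subgroup.range_subtype]
    exact h
  -- the orbits of `Q`
  set 𝒪 : Finset (Set Ω) := Xᶜ.image fun x => orbit Q x with h𝒪
  have hnorm : ∀ (n : N) (x : Ω), n • orbit Q x = orbit Q (n • x) := by
    intro n x
    have hn : ∀ h, h ∈ Q ↔ (n : G₁) * h * (n : G₁)⁻¹ ∈ Q := fun h => mem_normalizer_iff.1 n.2 h
    ext y
    constructor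
    · rintro ⟨z, ⟨⟨h, hh⟩, rfl⟩, rfl⟩
      refine ⟨⟨_, (hn h).1 hh⟩, ?_⟩
      change ((n : G₁) * h * (n : G₁)⁻¹) • ((n : G₁) • x) = (n : G₁) • h • x
      rw [← mul_smul, ← mul_smul, inv_mul_cancel_right]
    · rintro ⟨⟨h, hh⟩, rfl⟩
      refine ⟨((n : G₁)⁻¹ * h * n) • x, ⟨⟨_, ?_⟩, rfl⟩, ?_⟩
      · rw [hn, mul_assoc _ _ ((n : G₁) : G₁)]
        simpa [mul_assoc] using hh
      · change (n : G₁) • ((n : G₁)⁻¹ * h * n) • x = h • (n : G₁) • x
        simp only [← mul_smul, mul_assoc, mul_inv_cancel_left]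
  let s𝒪 : SubMulAction N (Set Ω) :=
    { carrier := (𝒪 : Set (Set Ω))
      smul_mem' := by
        intro n S hS
        simp only [h𝒪, Finset.coe_image, Set.mem_image, Finset.mem_coe, Finset.mem_compl] at hS ⊢
        obtain ⟨x, hx, rfl⟩ := hS
        exact ⟨n • x, fun h => hx ((hinv _ x).1 h), (hnorm n x).symm⟩ }
  have hcard𝒪 : Nat.card s𝒪 = q := by
    have h := Finset.card_eq_sum_card_image (fun x => orbit Q x) Xᶜ
    rw [Finset.card_compl, hXr, hn, Nat.add_sub_cancel] at h
    have hfib : ∀ S ∈ 𝒪, (Xᶜ.filter fun x => orbit Q x = S).card = p := by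
      intro S hS
      obtain ⟨x, hx, rfl⟩ := Finset.mem_image.1 hS
      rw [← horb x (Finset.mem_compl.1 hx), ← Set.ncard_coe_finset]
      congr 1
      ext y
      simp only [Finset.coe_filter, Finset.mem_compl, Set.mem_setOf_eq]
      constructor
      · rintro ⟨-, hy⟩; exact hy ▸ mem_orbit_self y
      · intro hy
        refine ⟨fun h => Finset.mem_compl.1 hx ?_, orbit_eq_iff.2 hy⟩
        obtain ⟨⟨k, hk⟩, rfl⟩ := hy
        exact (hinv k x).1 h
    rw [Finset.sum_congr rfl hfib, Finset.sum_const, smul_eq_mul] at h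
    rw [Nat.eq_of_mul_eq_mul_right hp.pos h, ← Nat.card_eq_finsetCard]
    exact Nat.card_congr (Equiv.subtypeEquivRight fun S => Iff.rfl)
  let ψ : N →* Equiv.Perm s𝒪 := toPermHom N s𝒪
  have : (ψ.ker.map φN).Normal := Subgroup.Normal.map inferInstance φN hφN
  have hne : ψ.ker.map φN ≠ ⊥ := by
    intro hbot
    have hd := Subgroup.index_dvd_of_le ((Subgroup.map_eq_bot_iff _).1 hbot)
    rw [Subgroup.index_ker, Subgroup.index_ker, MonoidHom.range_eq_top.2 hφN, Subgroup.card_top,
      Nat.card_perm, hcardX] at hd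
    have hd2 := hd.trans (Subgroup.card_subgroup_dvd_card ψ.range)
    rw [Nat.card_perm, hcard𝒪] at hd2
    exact absurd (Nat.le_of_dvd (Nat.factorial_pos q) hd2) (not_le.2 ((Nat.factorial_lt hq1).2 hqr))
  have hA : alternatingGroup sX ≤ ψ.ker.map φN :=
    Equiv.Perm.alternatingGroup_le_of_normal (by omega) (Subgroup.nontrivial_iff_ne_bot _ |>.2 hne)
  -- second commutators are supported in `X`
  let D : Subgroup N := ⁅⁅ψ.ker, ψ.ker⁆, ⁅ψ.ker, ψ.ker⁆⁆
  have hD : alternatingGroup sX ≤ D.map φN := by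
    have h5 : 5 ≤ Nat.card sX := by omega
    simp only [D, Subgroup.map_commutator]
    calc alternatingGroup sX = ⁅⁅alternatingGroup sX, alternatingGroup sX⁆,
          ⁅alternatingGroup sX, alternatingGroup sX⁆⁆ := by
          rw [commutator_alternatingGroup_eq_self h5, commutator_alternatingGroup_eq_self h5]
      _ ≤ _ := commutator_mono (commutator_mono hA hA) (commutator_mono hA hA)
  obtain ⟨a, b, c, hab, hac, hbc⟩ := Fintype.two_lt_card_iff.1
    (by rw [← Nat.card_eq_fintype_card]; omega : 2 < Fintype.card sX)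
  have hcyc := Equiv.Perm.isThreeCycle_swap_mul_swap_same hab hac hbc
  obtain ⟨g, hgD, hgφ⟩ := hD hcyc.mem_alternatingGroup
  have hfix : ∀ x, x ∉ X → g • x = x := by
    intro x hx
    let O : SubMulAction ψ.ker Ω :=
      { carrier := orbit Q x
        smul_mem' := by
          rintro ⟨n, hn⟩ y hy
          have hSmem : orbit Q x ∈ (𝒪 : Set (Set Ω)) := by
            rw [h𝒪, Finset.coe_image]
            exact ⟨x, Finset.mem_compl.2 hx, rfl⟩
          have h : n • orbit Q x = orbit Q x :=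
            congrArg Subtype.val (Equiv.ext_iff.1 hn ⟨_, hSmem⟩)
          exact h ▸ Set.smul_mem_smul_set hy }
    let ρ : ψ.ker →* Equiv.Perm O := toPermHom ψ.ker O
    have hOcard : Nat.card O = p := (Nat.card_coe_set_eq _).trans (horb x hx)
    let C := ((Q.subgroupOf N).subgroupOf ψ.ker).map ρ
    have hQψ : ∀ (k : G₁) (hk : k ∈ Q), (⟨k, le_normalizer hk⟩ : N) ∈ ψ.ker := by
      intro k hk
      refine MonoidHom.mem_ker.2 (Equiv.ext fun S => Subtype.ext ?_)
      obtain ⟨S, hS⟩ := S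
      obtain ⟨y, -, rfl⟩ := Finset.mem_image.1 hS
      change (⟨k, le_normalizer hk⟩ : N) • orbit Q y = orbit Q y
      rw [hnorm]
      exact orbit_eq_iff.2 ⟨⟨k, hk⟩, rfl⟩
    have hCtr : ∀ u v : O, ∃ c ∈ C, c u = v := by
      intro u v
      have hu : (u : Ω) ∈ orbit Q x := u.2
      obtain ⟨⟨k, hk⟩, hkv⟩ : (v : Ω) ∈ orbit Q (u : Ω) := by
        rw [orbit_eq_iff.2 hu]; exact v.2
      exact ⟨ρ ⟨_, hQψ k hk⟩, ⟨_, by simpa [mem_subgroupOf] using hk, rfl⟩, Subtype.ext hkv⟩
    have hQN : ((Q.subgroupOf N).subgroupOf ψ.ker).Normal := inferInstance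
    have hC : Nat.card C = p := by
      have hCp : IsPGroup p C := by
        refine IsPGroup.map ?_ ρ
        refine IsPGroup.comap_of_injective ?_ _ (Subgroup.subtype_injective _)
        exact IsPGroup.comap_of_injective hQp _ (Subgroup.subtype_injective _)
      obtain ⟨k, hk⟩ := IsPGroup.iff_card.1 hCp
      have hdvd := Subgroup.card_subgroup_dvd_card C
      rw [Nat.card_perm, hOcard, hk] at hdvd
      have hk1 : k ≤ 1 := by
        by_contra h
        have h2 : p * p ∣ p * (p - 1).factorial := by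
          rw [Nat.mul_factorial_pred hp.ne_zero, ← sq]
          exact (pow_dvd_pow p (by omega)).trans hdvd
        have h3 := hp.dvd_factorial.1 (Nat.dvd_of_mul_dvd_mul_left hp.pos h2)
        have := hp.two_le
        omega
      have hk0 : k ≠ 0 := by
        rintro rfl
        have hbot : C = ⊥ := Subgroup.card_eq_one.1 (by simpa using hk)
        have : Subsingleton O := ⟨fun u v => by
          obtain ⟨c, hc, rfl⟩ := hCtr u v
          rw [hbot, Subgroup.mem_bot] at hc
          simp [hc]⟩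
        have := hp.one_lt
        have h1 : Nat.card O ≤ 1 := Finite.card_le_one_iff_subsingleton.2 ‹Subsingleton O›
        rw [hOcard] at h1
        omega
      rw [hk, (by omega : k = 1), pow_one]
    have hM : (⊤ : Subgroup ψ.ker).map ρ ≤ normalizer (C : Set (Equiv.Perm O)) := by
      have h := Subgroup.le_normalizer_map (H := (Q.subgroupOf N).subgroupOf ψ.ker) ρ
      rwa [Subgroup.normalizer_eq_top] at h
    have hbot := commutator_commutator_eq_bot hC hM hCtr
    rw [← Subgroup.map_commutator, ← Subgroup.map_commutator] at hbot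
    have hD' : D = (⁅⁅(⊤ : Subgroup ψ.ker), (⊤ : Subgroup ψ.ker)⁆,
        ⁅(⊤ : Subgroup ψ.ker), (⊤ : Subgroup ψ.ker)⁆⁆ : Subgroup ψ.ker).map ψ.ker.subtype := by
      simp only [D, Subgroup.map_commutator, ← MonoidHom.range_eq_map, Subgroup.range_subtype]
    rw [hD'] at hgD
    obtain ⟨g', hg', rfl⟩ := hgD
    have h1 : ρ g' = 1 := by
      rw [← Subgroup.mem_bot, ← hbot]
      exact ⟨g', hg', rfl⟩
    exact congrArg Subtype.val (Equiv.ext_iff.1 h1 ⟨x, mem_orbit_self x⟩)
  have hg3 : toPerm ((g : G₁) : G) = Equiv.Perm.ofSubtype (φN g) := by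
    ext x
    by_cases hx : x ∈ X
    · exact (Equiv.Perm.ofSubtype_apply_of_mem (φN g) ((hmemX x).2 hx)).symm
    · rw [Equiv.Perm.ofSubtype_apply_of_not_mem _ ((hmemX x).not.2 hx)]
      exact hfix x hx
  have hP : IsPreprimitive (toPermHom G Ω).range Ω :=
    let f : Ω →ₑ[⇑(toPermHom G Ω).rangeRestrict] Ω := { toFun := id, map_smul' := fun g z => rfl }
    IsPreprimitive.of_surjective (f := f) Function.surjective_id
  refine Equiv.Perm.alternatingGroup_le_of_isPreprimitive_of_isThreeCycle_mem hP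
    (g := toPerm ((g : G₁) : G)) ?_ ⟨_, rfl⟩
  rw [hg3, hgφ, Equiv.Perm.IsThreeCycle, Equiv.Perm.cycleType_ofSubtype]
  exact hcyc.cycleType

end CfsgLib.ChainLength
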