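import Cfsg.Agent.S5713
import Cfsg.Agent.ChainLength.Miller
import Cfsg.Agent.ChainLength.BlockSystem

/-!
# The order of a primitive group of degree at least 856 other than `A_n`, `S_n`

`log |G| ≤ 2.55 n`, by elementary means.
-/

set_option autoImplicit false

open Real MulAction

namespace CfsgLib.ChainLength

theorem log_facts {n : ℕ} (hn : 856 ≤ n) :
    29.25 ≤ √(n : ℝ) ∧ log n ≤ 0.232 * √(n : ℝ) ∧ log n ^ 2 ≤ 1.566 * √(n : ℝ) := by
  have hn' : (856 : ℝ) ≤ n := by exact_mod_cast hn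
  set s := √(n : ℝ) with hs
  have hs1 : 29.25 ≤ s := Real.le_sqrt_of_sq_le (by norm_num; linarith)
  set v := √s with hv
  have hv1 : 5.4 ≤ v := Real.le_sqrt_of_sq_le (by norm_num at *; linarith)
  have hv2 : v ^ 2 = s := Real.sq_sqrt (by positivity)
  have hv4 : (n : ℝ) = v ^ 4 := by
    rw [show v ^ 4 = (v ^ 2) ^ 2 by ring, hv2, hs, Real.sq_sqrt (by positivity)]
  have h565 : log 5.65 ≤ 5 / 2 * log 2 := by
    have h := log_le_log (by norm_num : (0 : ℝ) < 5.65 ^ 2) (by norm_num : (5.65 : ℝ) ^ 2 ≤ 2 ^ 5)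
    rw [log_pow, log_pow] at h
    push_cast at h
    linarith
  have hlv : log v ≤ 0.31275 * v := by
    have h := log_le_sub_one_of_pos (by positivity : (0 : ℝ) < v / 5.65)
    rw [log_div (by positivity) (by norm_num)] at h
    have := log_two_lt_d9
    norm_num at *
    linarith
  have hL : log n ≤ 1.251 * v := by
    rw [hv4, log_pow]; push_cast; norm_num at *; linarith
  have hL0 : 0 ≤ log (n : ℝ) := log_natCast_nonneg n
  refine ⟨hs1, ?_, ?_⟩
  · have : 5.4 * v ≤ s := by rw [← hv2, sq]; exact mul_le_mul_of_nonneg_right hv1 (by positivity)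
    norm_num at *; linarith
  · have := pow_le_pow_left₀ hL0 hL 2
    rw [mul_pow, hv2] at this
    norm_num at *; linarith

/-- The numerical form of the bound for a uniprimitive group. -/
theorem uni_numeric {n : ℕ} (hn : 856 ≤ n) {m D : ℕ} (hm : m ≤ n) (hD1 : 1 ≤ D)
    (hD : m ≤ (2 * D + 1) ^ 2) :
    (m : ℝ) / D * (log m ^ 2 / 2 + 2) + log m / 2 + 4 ≤ 1.81 * n := by
  obtain ⟨hs, hL, hL2⟩ := log_facts hn
  set s := √(n : ℝ)
  have hs2 : s ^ 2 = n := Real.sq_sqrt (by positivity)
  have hD0 : (1 : ℝ) ≤ D := by exact_mod_cast hD1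
  have hlm : log (m : ℝ) ≤ log n := by
    rcases Nat.eq_zero_or_pos m with rfl | h
    · simpa using log_natCast_nonneg n
    · exact log_le_log (by exact_mod_cast h) (by exact_mod_cast hm)
  have hlm0 := log_natCast_nonneg m
  have h1 : log m ^ 2 / 2 + 2 ≤ 0.8514 * s := by
    have := pow_le_pow_left₀ hlm0 hlm 2
    norm_num at *; linarith
  have h2 : (m : ℝ) / D ≤ 2.103 * s := by
    rw [div_le_iff₀ (by linarith)]
    have hmn : (m : ℝ) ≤ n := by exact_mod_cast hm
    have hmD : (m : ℝ) ≤ (2 * D + 1) ^ 2 := by exact_mod_cast hD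
    norm_num at hs hs2 ⊢
    rcases le_or_gt (2 * (D : ℝ) + 1) s with h | h
    · nlinarith
    · nlinarith
  have h3 := mul_le_mul h2 h1 (by positivity) (by positivity)
  have h4 : 29.25 * s ≤ n := by rw [← hs2, sq]; exact mul_le_mul_of_nonneg_right hs (by positivity)
  have h5 : (856 : ℝ) ≤ n := by exact_mod_cast hn
  norm_num at *
  nlinarith

variable {G Ω : Type*} [Group G] [Finite G] [MulAction G Ω] [FaithfulSMul G Ω] [Fintype Ω]
  [DecidableEq Ω]

/-- A uniprimitive group is small. -/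
theorem log_card_le_uniprimitive (hprim : IsPreprimitive G Ω) (h2 : ¬ IsMultiplyPretransitive G Ω 2)
    {n : ℕ} (hn : 856 ≤ n) (hm : Fintype.card Ω ≤ n) : log (Nat.card G) ≤ 1.81 * n := by
  classical
  have hnot : ∃ a b c d : Ω, a ≠ b ∧ c ≠ d ∧
      Cfsg.Agent.S5713.col G a b ≠ Cfsg.Agent.S5713.col G c d := by
    by_contra hc
    push Not at hc
    exact h2 (is_two_pretransitive_iff.2 fun {a b c d} hab hcd =>
      (Cfsg.Agent.S5713.col_eq G).1 (hc c d a b hcd hab))
  obtain ⟨a, b, -, -, hab, -⟩ := hnot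
  have hex : ∃ D, 1 ≤ D ∧ Fintype.card Ω ≤ (2 * D + 1) ^ 2 :=
    ⟨Fintype.card Ω + 1, by omega, (by omega : Fintype.card Ω ≤ 2 * (Fintype.card Ω + 1) + 1).trans
      (Nat.le_self_pow (by norm_num) _)⟩
  obtain ⟨hD1, hD⟩ := Nat.find_spec hex
  refine (log_card_le_of_separated (c := Cfsg.Agent.S5713.col G) (D := Nat.find hex)
    (fun g w y => Cfsg.Agent.S5713.col_smul G g w y) hD1 ?_).trans (uni_numeric hn hm hD1 hD)
  intro y z hyz
  have h := Cfsg.Agent.S5713.le_sq_of_not_two_transitive G hprim (by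
    by_contra hc
    push Not at hc
    exact h2 (is_two_pretransitive_iff.2 fun {a b c d} hab hcd =>
      (Cfsg.Agent.S5713.col_eq G).1 (hc c d a b hcd hab))) hyz
  have hpos : 1 ≤ (Cfsg.Agent.S5713.dset G y z).card := by
    by_contra hc
    push Not at hc
    rw [Nat.lt_one_iff.1 hc] at h
    have := Fintype.one_lt_card_iff.2 ⟨a, b, hab⟩
    omega
  refine (Nat.find_le ⟨hpos, h⟩).trans (le_of_eq ?_)
  simp only [Cfsg.Agent.S5713.dset]

/-- An extension step for multiple transitivity. -/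
theorem isMultiplyPretransitive_add_two (Y : Finset Ω) {c : ℕ} (hY : Y.card = c)
    (hc : IsMultiplyPretransitive G Ω c)
    (h2 : IsMultiplyPretransitive (fixingSubgroup G (Y : Set Ω))
      (SubMulAction.ofFixingSubgroup G (Y : Set Ω)) 2) :
    IsMultiplyPretransitive G Ω (c + 2) := by
  classical
  let e : Fin c ↪ Ω := (Fin.castOrderIso hY.symm).toEquiv.toEmbedding.trans
    (Y.equivFin.symm.toEmbedding.trans (Function.Embedding.subtype _))
  have heY : ∀ z ∈ Y, ∃ i, e i = z := fun z hz =>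
    ⟨Fin.cast hY (Y.equivFin ⟨z, hz⟩), by simp [e]⟩
  have hmove : ∀ x : Fin (c + 2) ↪ Ω, ∃ g : G, (∀ i : Fin c, g • x (Fin.castAdd 2 i) = e i) ∧
      ∀ j : Fin 2, g • x (Fin.natAdd c j) ∉ Y := by
    intro x
    obtain ⟨g, hg⟩ := hc.exists_smul_eq ((Fin.castAddEmb 2).trans x) e
    have hgi : ∀ i, g • x (Fin.castAdd 2 i) = e i := fun i => congrArg (fun f : Fin c ↪ Ω => f i) hg
    refine ⟨g, hgi, fun j hj => ?_⟩
    obtain ⟨i, hi⟩ := heY _ hj
    have h := congrArg Fin.val (x.injective (smul_left_cancel g ((hgi i).trans hi)))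
    simp at h
    omega
  refine ⟨fun x y => ?_⟩
  obtain ⟨g, hg, hgY⟩ := hmove x
  obtain ⟨g', hg', hg'Y⟩ := hmove y
  obtain ⟨⟨k, hk⟩, hk'⟩ := h2.exists_smul_eq
    ⟨fun j => ⟨g • x (Fin.natAdd c j), hgY j⟩, fun i j h =>
      Fin.natAdd_injective _ _ (x.injective (smul_left_cancel g (congrArg Subtype.val h)))⟩
    ⟨fun j => ⟨g' • y (Fin.natAdd c j), hg'Y j⟩, fun i j h =>
      Fin.natAdd_injective _ _ (y.injective (smul_left_cancel g' (congrArg Subtype.val h)))⟩
  refine ⟨g'⁻¹ * k * g, Function.Embedding.ext fun i => ?_⟩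
  change (g'⁻¹ * k * g) • x i = y i
  rw [mul_smul, mul_smul, inv_smul_eq_iff]
  induction i using Fin.addCases with
  | left i =>
    rw [hg, hg', (mem_fixingSubgroup_iff G).1 hk]
    exact (Y.equivFin.symm (Fin.cast hY.symm i)).2
  | right j => exact congrArg Subtype.val (congrArg (fun f : Fin 2 ↪ _ => f j) hk')

/-- A doubly transitive group is not very highly transitive. -/
theorem not_highly_transitive (hprim : IsPreprimitive G Ω)
    (hA : ¬ alternatingGroup Ω ≤ (toPermHom G Ω).range) (hn : 856 ≤ Fintype.card Ω) :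
    ¬ IsMultiplyPretransitive G Ω (3 * Nat.sqrt (Fintype.card Ω) + 3) := by
  set n := Fintype.card Ω with hn'
  set s := Nat.sqrt n with hs
  have hs1 : 29 ≤ s := by rw [hs, Nat.le_sqrt]; omega
  have hs2 : s * s ≤ n := Nat.sqrt_le n
  have hs3 : n < (s + 1) * (s + 1) := Nat.lt_succ_sqrt n
  obtain ⟨p, hp, hp1, hp2⟩ := Nat.exists_prime_lt_and_le_two_mul (s + 1) (by omega)
  have hdm := Nat.div_add_mod n p
  have hr0 := Nat.mod_lt n hp.pos
  have h2p : 2 * p ≤ n := by nlinarith
  have hq2 : 2 ≤ n / p := (Nat.le_div_iff_mul_le hp.pos).2 h2p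
  have hqs : n / p ≤ s := by
    rw [← Nat.lt_succ_iff, Nat.div_lt_iff_lt_mul hp.pos]
    nlinarith
  intro hk
  by_cases hgood : n / p < n % p ∧ 5 ≤ n % p
  · have := isMultiplyPretransitive_of_le (G := G) (α := Ω) (m := n % p + 1)
      (n := 3 * s + 3) (by omega) (by rw [Nat.card_eq_fintype_card]; nlinarith)
    exact hA (alternatingGroup_le_of_isMultiplyPretransitive (q := n / p) hp
      (by rw [mul_comm, hdm]) (by omega) (by omega) hgood.1 hgood.2 hprim this)
  · have := isMultiplyPretransitive_of_le (G := G) (α := Ω) (m := n % p + p + 1)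
      (n := 3 * s + 3) (by omega) (by rw [Nat.card_eq_fintype_card]; nlinarith)
    refine hA (alternatingGroup_le_of_isMultiplyPretransitive (q := n / p - 1) hp ?_ (by omega)
      (by omega) (by omega) (by omega) hprim this)
    have h1 : (n / p - 1) * p + p = p * (n / p) := by
      rw [← Nat.succ_mul, Nat.succ_eq_add_one, Nat.sub_add_cancel (by omega), mul_comm]
    omega

/-- **The bound.** -/
theorem log_card_le_of_primitive (hprim : IsPreprimitive G Ω)
    (hA : ¬ alternatingGroup Ω ≤ (toPermHom G Ω).range) (hn : 856 ≤ Fintype.card Ω) :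
    log (Nat.card G) ≤ 2.55 * Fintype.card Ω := by
  classical
  set n := Fintype.card Ω with hn'
  obtain ⟨hs, hL, hL2⟩ := log_facts hn
  have hL0 : 0 ≤ log (n : ℝ) := log_natCast_nonneg n
  have hn5 : (856 : ℝ) ≤ n := by exact_mod_cast hn
  have h4 : 29.25 * √(n : ℝ) ≤ n := by
    nlinarith [Real.sq_sqrt (by positivity : (0 : ℝ) ≤ n)]
  by_cases h2 : IsMultiplyPretransitive G Ω 2
  swap
  · have := log_card_le_uniprimitive hprim h2 hn le_rfl
    norm_num at *
    linarith
  have hsn : 3 * Nat.sqrt n + 3 ≤ n := by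
    have := Nat.sqrt_le n
    have : 29 ≤ Nat.sqrt n := Nat.le_sqrt.2 (by omega)
    nlinarith
  set R := 3 * Nat.sqrt n + 2 with hR
  set t := Nat.findGreatest (fun k => IsMultiplyPretransitive G Ω k) R with ht
  have ht2 : 2 ≤ t := Nat.le_findGreatest (P := fun k => IsMultiplyPretransitive G Ω k) (by omega) h2
  have htP : IsMultiplyPretransitive G Ω t :=
    Nat.findGreatest_spec (P := fun k => IsMultiplyPretransitive G Ω k) (m := 2) (by omega) h2
  have htR : t ≤ R := Nat.findGreatest_le R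
  have htnot : ¬ IsMultiplyPretransitive G Ω (t + 1) := by
    rcases htR.lt_or_eq with h | h
    · exact Nat.findGreatest_is_greatest (P := fun k => IsMultiplyPretransitive G Ω k)
        (by omega) (by omega : t + 1 ≤ R)
    · rw [h]; exact not_highly_transitive hprim hA hn
  have hnc : Nat.card Ω = n := Nat.card_eq_fintype_card
  obtain ⟨X, -, hXt⟩ := Finset.exists_subset_card_eq (s := (Finset.univ : Finset Ω)) (n := t - 2)
    (by rw [Finset.card_univ]; omega)
  obtain ⟨x₀, hx₀⟩ : ∃ x₀, x₀ ∉ X := by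
    by_contra hc
    push Not at hc
    have := Finset.card_le_card (fun x (_ : x ∈ (Finset.univ : Finset Ω)) => hc x)
    rw [Finset.card_univ] at this
    omega
  set Y := insert x₀ X with hY
  have hYc : Y.card = t - 1 := by rw [hY, Finset.card_insert_of_notMem hx₀]; omega
  have htc : IsMultiplyPretransitive G Ω (t - 1) :=
    isMultiplyPretransitive_of_le (n := t) (by omega) (by omega)
  have hG₂not : ¬ IsMultiplyPretransitive (fixingSubgroup G (Y : Set Ω))
      (SubMulAction.ofFixingSubgroup G (Y : Set Ω)) 2 := by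
    intro h
    apply htnot
    rw [show t + 1 = t - 1 + 2 by omega]
    exact isMultiplyPretransitive_add_two Y hYc htc h
  have hG₂trans : IsPretransitive (fixingSubgroup G (Y : Set Ω))
      (SubMulAction.ofFixingSubgroup G (Y : Set Ω)) :=
    is_one_pretransitive_iff.1 (SubMulAction.ofFixingSubgroup.isMultiplyPretransitive G
      (Y : Set Ω) (m := 1) (n := t) (by rw [Set.ncard_coe_finset, hYc]; omega))
  have hsq : ((Nat.sqrt n : ℕ) : ℝ) ≤ √(n : ℝ) := Real.nat_sqrt_le_real_sqrt
  have hXreal : (Y.card : ℝ) ≤ 3 * √(n : ℝ) + 1 := by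
    rw [hYc]
    have : ((t - 1 : ℕ) : ℝ) ≤ ((3 * Nat.sqrt n + 1 : ℕ) : ℝ) := by exact_mod_cast (by omega : t - 1 ≤ _)
    push_cast at this
    linarith
  by_cases hprim₂ : IsPreprimitive (fixingSubgroup G (Y : Set Ω))
      (SubMulAction.ofFixingSubgroup G (Y : Set Ω))
  · have : FaithfulSMul (fixingSubgroup G (Y : Set Ω)) (SubMulAction.ofFixingSubgroup G (Y : Set Ω)) :=
      ⟨fun {g h} hgh => Subtype.ext (eq_of_smul_eq_smul (α := Ω) fun y => by
        by_cases hy : y ∈ Y
        · rw [(mem_fixingSubgroup_iff G).1 g.2 y hy, (mem_fixingSubgroup_iff G).1 h.2 y hy]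
        · exact congrArg Subtype.val (hgh ⟨y, hy⟩))⟩
    have hb := log_card_le_uniprimitive hprim₂ hG₂not hn (Fintype.card_subtype_le _)
    have hmain := log_card_le_mul_add (G := G) Y (by omega)
    rw [← hn'] at hmain
    have hY' := mul_le_mul hXreal hL hL0 (by positivity)
    norm_num at *
    nlinarith [Real.mul_self_sqrt (by positivity : (0 : ℝ) ≤ (n : ℝ))]
  · obtain ⟨B, hB, hBnt⟩ : ∃ B : Set (SubMulAction.ofFixingSubgroup G (Y : Set Ω)),
        IsBlock (fixingSubgroup G (Y : Set Ω)) B ∧ ¬ IsTrivialBlock B := by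
      by_contra hc
      push Not at hc
      exact hprim₂ ⟨fun {B} hB => hc B hB⟩
    rw [IsTrivialBlock, not_or, Set.not_subsingleton_iff] at hBnt
    obtain ⟨y₀, hy₀⟩ := hBnt.1.nonempty
    have hK2 := SubMulAction.ofFixingSubgroup.isMultiplyPretransitive G (X : Set Ω) (m := 2) (n := t)
      (by rw [Set.ncard_coe_finset, hXt]; omega)
    rw [is_two_pretransitive_iff] at hK2
    have hfix : ∀ k : fixingSubgroup G (X : Set Ω), ∀ x ∈ X, k • x = x := fun k x hx =>
      (mem_fixingSubgroup_iff G).1 k.2 x hx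
    set Bv : Set Ω := Subtype.val '' B with hBv
    obtain ⟨Bf⟩ := exists_blockFamily (K := fixingSubgroup G (X : Set Ω)) X hfix
      (fun {a b c d} ha hb hc hd hab hcd => by
        obtain ⟨k, hk1, hk2⟩ := hK2 (a := ⟨a, ha⟩) (b := ⟨b, hb⟩) (c := ⟨c, hc⟩) (d := ⟨d, hd⟩)
          (fun h => hab (congrArg Subtype.val h)) (fun h => hcd (congrArg Subtype.val h))
        exact ⟨k, congrArg Subtype.val hk1, congrArg Subtype.val hk2⟩)
      hx₀ Bv (y₀ := y₀.1) (by
        rintro _ ⟨⟨v, hv⟩, -, rfl⟩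
        exact ⟨fun h => hv (Finset.mem_insert_of_mem h), fun h => hv (by
          rw [show v = x₀ from h]; exact Finset.mem_insert_self x₀ X)⟩)
      ⟨y₀, hy₀, rfl⟩ (by
        rintro ⟨h, hh⟩ hx _ ⟨v, hv, rfl⟩ ⟨v', hv', hvv'⟩ _ ⟨u, hu, rfl⟩
        have hh₂ : h ∈ fixingSubgroup G (Y : Set Ω) := by
          rw [mem_fixingSubgroup_iff]
          intro z hz
          rcases Finset.mem_insert.1 hz with rfl | hz
          · exact hx
          · exact (mem_fixingSubgroup_iff G).1 hh z hz
        have hv2 : (⟨h, hh₂⟩ : fixingSubgroup G (Y : Set Ω)) • v = v' := Subtype.ext hvv'.symm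
        have heq := MulAction.isBlock_iff_smul_eq_of_mem.1 hB (g := ⟨h, hh₂⟩) hv (hv2 ▸ hv')
        exact ⟨_, heq ▸ Set.smul_mem_smul_set hu, rfl⟩)
    set a := Bv.ncard with ha
    set m := Xᶜ.card with hm
    have hmn : m = n - (t - 2) := by rw [hm, Finset.card_compl, hXt]
    have hΩ₂ : Nat.card (SubMulAction.ofFixingSubgroup G (Y : Set Ω)) = m - 1 := by
      have : Nat.card (SubMulAction.ofFixingSubgroup G (Y : Set Ω)) = Yᶜ.card := by
        rw [← Nat.card_eq_finsetCard]
        exact Nat.card_congr (Equiv.subtypeEquivRight fun z => by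
          rw [Finset.mem_compl, ← Finset.mem_coe]; rfl)
      rw [this, Finset.card_compl, hYc, hmn]; omega
    have haB : a = B.ncard := Set.ncard_image_of_injective _ Subtype.val_injective
    have ha2 : 2 ≤ a := by
      rw [haB]; exact (Set.one_lt_ncard (Set.toFinite _)).2 hBnt.1
    have ha2m : 2 * a ≤ m - 1 := by
      have hd := hB.ncard_dvd_card hBnt.1.nonempty
      have hlt : B.ncard < Nat.card (SubMulAction.ofFixingSubgroup G (Y : Set Ω)) := by
        rw [← Set.ncard_univ]
        exact Set.ncard_lt_ncard ((Set.subset_univ B).ssubset_of_ne hBnt.2) (Set.toFinite _)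
      rw [hΩ₂] at hd hlt
      obtain ⟨c, hc⟩ := hd
      rw [← haB] at hc hlt
      have : 2 ≤ c := by
        by_contra h
        interval_cases c <;> omega
      calc 2 * a ≤ c * a := Nat.mul_le_mul_right _ this
        _ = m - 1 := by rw [hc, mul_comm]
    set sm := Nat.sqrt m with hsm
    have hsm1 := Nat.sqrt_le m
    have hsm2 := Nat.lt_succ_sqrt m
    have hm700 : 9 * m ≥ 5 * n := by
      have := Nat.sqrt_le n
      have : 29 ≤ Nat.sqrt n := Nat.le_sqrt.2 (by omega)
      have h1 : 29 * Nat.sqrt n ≤ n := le_trans (Nat.mul_le_mul_right _ this) (Nat.sqrt_le n)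
      omega
    have hsm20 : 20 ≤ sm := Nat.le_sqrt.2 (by omega)
    obtain ⟨S, hS, hSc, hwit⟩ : ∃ S : Finset Ω, S ⊆ Xᶜ ∧ S.card ≤ 4 * sm ∧
        ∀ y z, y ∉ X → z ∉ X → y ∉ S → z ∉ S → y ≠ z →
          2 * (sm + 1) ≤ {w | ∃ x ∈ S, ¬ Bf.R x y z ∧ (Bf.R x y w ∨ Bf.R x z w)}.ncard := by
      by_cases hsmall : a ≤ sm
      · obtain ⟨S, hS, hSc⟩ := Finset.exists_subset_card_eq (s := Xᶜ) (n := a - 1 + 2 * (sm + 1))
          (by rw [← hm]; nlinarith [Nat.sub_le a 1])
        exact ⟨S, hS, by omega, fun y z hy hz hyS _ hyz =>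
          Bf.witness_small ha2 hS hSc.ge hy hz hyS hyz⟩
      · set k := 2 * Nat.log 2 m + 2 with hk
        obtain ⟨S, hS, hSc, hbad⟩ := Bf.exists_good (by omega) (by omega) k
        refine ⟨S, hS, ?_, ?_⟩
        · have h1 : m < 2 ^ (2 * sm) := by
            rw [two_mul, pow_add]
            have : sm + 1 ≤ 2 ^ sm := Nat.lt_two_pow_self
            exact hsm2.trans_le (Nat.mul_le_mul this this)
          have := Nat.log_lt_of_lt_pow (by omega) h1
          omega
        · intro y z hy hz hyS hzS hyz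
          have h0 : (Xᶜ.offDiag.filter fun p => ∀ x ∈ S, Bf.R x p.1 p.2).card = 0 := by
            by_contra hne
            have h1 : 2 ^ k ≤ m ^ 2 := (Nat.le_mul_of_pos_left _ (Nat.pos_of_ne_zero hne)).trans hbad
            have h2 : m < 2 ^ (Nat.log 2 m + 1) := Nat.lt_pow_succ_log_self (by norm_num) m
            have h3 : 2 ^ k = 4 * (2 ^ Nat.log 2 m) ^ 2 := by
              rw [hk, ← pow_mul, pow_add]; ring
            have h4 : 2 ^ Nat.log 2 m ≤ m := Nat.pow_log_le_self 2 (by omega)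
            rw [pow_succ'] at h2
            nlinarith
          rw [Finset.card_eq_zero, Finset.filter_eq_empty_iff] at h0
          have := h0 (x := (y, z)) (Finset.mem_offDiag.2 ⟨Finset.mem_compl.2 hy, Finset.mem_compl.2 hz, hyz⟩)
          push Not at this
          obtain ⟨x, hxS, hxR⟩ := this
          have hxX : x ∉ X := Finset.mem_compl.1 (hS hxS)
          have hyx : y ≠ x := fun h => hyS (h ▸ hxS)
          have hzx : z ≠ x := fun h => hzS (h ▸ hxS)
          have hdisj : Disjoint {w | Bf.R x y w} {w | Bf.R x z w} :=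
            Set.disjoint_left.2 fun w h1 h2 => hxR (Bf.trans x y z w h1 h2)
          have hc := Set.ncard_union_eq hdisj (Set.toFinite _) (Set.toFinite _)
          rw [Bf.card_class x y hxX hy hyx, Bf.card_class x z hxX hz hzx] at hc
          refine le_trans (by omega : 2 * (sm + 1) ≤ a + a) (hc ▸ Set.ncard_le_ncard ?_ (Set.toFinite _))
          rintro w (h | h)
          · exact ⟨x, hxS, hxR, Or.inl h⟩
          · exact ⟨x, hxS, hxR, Or.inr h⟩
    have : FaithfulSMul (fixingSubgroup G (X : Set Ω)) Ω :=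
      ⟨fun {g h} hgh => Subtype.ext (eq_of_smul_eq_smul (α := Ω) fun y => hgh y)⟩
    have hK := Bf.log_card_le_of hfix S (D := 2 * (sm + 1)) (by omega)
      (by rw [← hn']; have : m ≤ n := by omega
          nlinarith) hwit
    have hmain := log_card_le_mul_add (G := G) X (by omega)
    rw [← hn'] at hK hmain
    have hXS : ((X.card + S.card : ℕ) : ℝ) ≤ 7 * √(n : ℝ) := by
      have h1 : X.card + S.card ≤ 7 * Nat.sqrt n := by
        have : sm ≤ Nat.sqrt n := Nat.sqrt_le_sqrt (by omega)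
        omega
      have h2 : ((X.card + S.card : ℕ) : ℝ) ≤ ((7 * Nat.sqrt n : ℕ) : ℝ) := by exact_mod_cast h1
      push_cast at h2 ⊢
      linarith
    have hD : √(n : ℝ) ≤ ((2 * (sm + 1) : ℕ) : ℝ) := by
      rw [Real.sqrt_le_left (by positivity)]
      exact_mod_cast (by nlinarith : n ≤ (2 * (sm + 1)) ^ 2)
    have hnD : (n : ℝ) / ((2 * (sm + 1) : ℕ) : ℝ) ≤ √(n : ℝ) := by
      rw [div_le_iff₀ (by positivity)]
      calc (n : ℝ) = √(n : ℝ) * √(n : ℝ) := (Real.mul_self_sqrt (by positivity)).symm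
        _ ≤ _ := mul_le_mul_of_nonneg_left hD (by positivity)
    have h1 : log (n : ℝ) ^ 2 / 2 + 2 ≤ 0.8514 * √(n : ℝ) := by norm_num at *; linarith
    have h2 := mul_le_mul hnD h1 (by positivity) (by positivity)
    have h3 := mul_le_mul hXS hL hL0 (by positivity)
    push_cast at h3 hK h2
    norm_num at *
    nlinarith [Real.mul_self_sqrt (by positivity : (0 : ℝ) ≤ (n : ℝ))]

end CfsgLib.ChainLength
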