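import Cfsg.Agent.ChainLength.Bits
import Cfsg.Agent.ChainLength.Length

/-!
# Long chains in symmetric groups
-/

set_option autoImplicit false

open Equiv

namespace CfsgLib.ChainLength

/-- The length of the symmetric group of degree `n`. -/
noncomputable def symLen (n : ℕ) : ℕ := len (⊤ : Subgroup (Perm (Fin n)))

theorem symLen_add_le_len_range (a c : ℕ) :
    symLen a + symLen c ≤ len (Perm.sumCongrHom (Fin a) (Fin c)).range := by
  rw [MonoidHom.range_eq_map, len_map_eq Perm.sumCongrHom_injective]
  have h := inf_ker_add_le_len (MonoidHom.fst (Perm (Fin a)) (Perm (Fin c))) ⊤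
  rw [Subgroup.map_top_of_surjective _ Prod.fst_surjective, top_inf_eq] at h
  have h2 : (MonoidHom.fst (Perm (Fin a)) (Perm (Fin c))).ker =
      (⊤ : Subgroup (Perm (Fin c))).map (MonoidHom.inr (Perm (Fin a)) (Perm (Fin c))) := by
    ext ⟨u, v⟩
    rw [MonoidHom.mem_ker, Subgroup.mem_map]
    exact ⟨fun h => ⟨v, trivial, Prod.ext h.symm rfl⟩, by rintro ⟨w, -, hw⟩; exact (congrArg Prod.fst hw).symm⟩
  rw [h2, len_map_eq (fun x y hxy => congrArg Prod.snd hxy), Nat.add_comm] at h
  exact h

/-- The permutations preserving the two halves as a partition. -/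
def halfStab (α β : Type*) : Subgroup (Perm (α ⊕ β)) where
  carrier := {g | ∀ x y, ((g x).isLeft = (g y).isLeft) ↔ (x.isLeft = y.isLeft)}
  one_mem' := fun x y => Iff.rfl
  mul_mem' := fun {g h} hg hh x y => (hg (h x) (h y)).trans (hh x y)
  inv_mem' := fun {g} hg x y => by
    have := hg (g⁻¹ x) (g⁻¹ y)
    rw [Perm.inv_def, Equiv.apply_symm_apply, Equiv.apply_symm_apply] at this
    exact this.symm

theorem symLen_split {a c : ℕ} (ha : 1 ≤ a) (hc : 1 ≤ c) : symLen a + symLen c + 1 ≤ symLen (a + c) := by
  refine le_trans (Nat.add_le_add_right (symLen_add_le_len_range a c) 1) ?_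
  rw [symLen, ← len_perm_congr (α := Fin a ⊕ Fin c) (by simp)]
  refine len_lt (lt_of_le_of_ne le_top fun h => ?_)
  obtain ⟨⟨u, v⟩, huv⟩ := h.ge (Subgroup.mem_top (swap (Sum.inl (⟨0, ha⟩ : Fin a)) (Sum.inr (⟨0, hc⟩ : Fin c))))
  have := congrArg (fun e : Perm (Fin a ⊕ Fin c) => e (Sum.inl ⟨0, ha⟩)) huv
  simp at this

theorem symLen_double {m : ℕ} (hm : 2 ≤ m) : 2 * symLen m + 2 ≤ symLen (2 * m) := by
  have h1 := symLen_add_le_len_range m m
  have hRW : (Perm.sumCongrHom (Fin m) (Fin m)).range < halfStab (Fin m) (Fin m) := by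
    refine lt_of_le_of_ne ?_ fun h => ?_
    · rintro _ ⟨⟨u, v⟩, rfl⟩ x y
      cases x <;> cases y <;> simp
    · have hmem : (Equiv.sumComm (Fin m) (Fin m)) ∈ halfStab (Fin m) (Fin m) := by
        intro x y
        cases x <;> cases y <;> simp
      rw [← h] at hmem
      obtain ⟨⟨u, v⟩, huv⟩ := hmem
      have := congrArg (fun e : Perm (Fin m ⊕ Fin m) => e (Sum.inl ⟨0, by omega⟩)) huv
      simp at this
  have hW : halfStab (Fin m) (Fin m) < ⊤ := by
    refine lt_of_le_of_ne le_top fun h => ?_
    have := h.ge (Subgroup.mem_top (swap (Sum.inl (⟨0, by omega⟩ : Fin m)) (Sum.inr (⟨0, by omega⟩ : Fin m))))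
      (Sum.inl ⟨0, by omega⟩) (Sum.inl ⟨1, by omega⟩)
    simp [swap_apply_def] at this
  have h2 := len_lt hRW
  have h3 := len_lt hW
  rw [len_perm_congr (α := Fin m ⊕ Fin m) (m := 2 * m) (by simp [two_mul])] at h3
  simp only [symLen] at *
  omega

/-- **The lower bound.** -/
theorem chainFun_le_symLen : ∀ {n : ℕ}, 1 ≤ n → chainFun n ≤ symLen n := by
  intro n
  induction n using Nat.strong_induction_on with
  | _ n ih =>
    intro hn
    rcases eq_or_lt_of_le hn with rfl | hn2
    · simp [chainFun]
    obtain ⟨j, hj1, hj2⟩ : ∃ j, 2 ^ j ≤ n ∧ n < 2 ^ (j + 1) :=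
      ⟨Nat.log 2 n, Nat.pow_log_le_self 2 (by omega), Nat.lt_pow_succ_log_self (by norm_num) n⟩
    obtain ⟨i, rfl⟩ : ∃ i, j = i + 1 := ⟨j - 1, by
      rcases j with _ | j
      · simp at hj2; omega
      · omega⟩
    set x := 2 ^ i with hx
    have hxpos : 1 ≤ x := Nat.one_le_two_pow
    have hbx : bits x = 1 := by
      rw [hx]
      clear hj1 hj2 hx hxpos ih
      induction i with
      | zero => simp
      | succ i ihi => rw [pow_succ', bits_two_mul, ihi]
    rw [pow_succ', pow_succ', ← hx] at hj2
    rw [pow_succ', ← hx] at hj1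
    rcases eq_or_lt_of_le hj1 with h | h
    · -- a power of two
      subst h
      have hf2 := chainFun_add (n := 2 * x) (by omega)
      have hfx := chainFun_add (n := x) hxpos
      rw [bits_two_mul, hbx] at hf2
      rw [hbx] at hfx
      rcases eq_or_lt_of_le hxpos with hx1 | hx2
      · have h' := symLen_split (a := x) (c := x) hxpos hxpos
        rw [← two_mul x] at h'
        omega
      · have h1 := ih x (by omega) hxpos
        have h2 := symLen_double (m := x) (by omega)
        have hev : x % 2 = 0 := by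
          rcases i with _ | i
          · simp at hx; omega
          · rw [hx, pow_succ', Nat.mul_mod_right]
        omega
    · obtain ⟨y, rfl⟩ : ∃ y, n = 2 * x + y := ⟨n - 2 * x, by omega⟩
      have hy : 1 ≤ y := by omega
      have h1 := ih (2 * x) (by omega) (by omega)
      have h2 := ih y (by omega) hy
      have h3 := symLen_split (a := 2 * x) (c := y) (by omega) hy
      have hb : bits (2 * x + y) ≥ bits y + 1 := by
        clear * - hbx hj2 hy hxpos
        have key : ∀ i y, y < 2 ^ i → bits (2 ^ i + y) = bits y + 1 := by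
          intro i
          induction i with
          | zero => intro y hy; simp at hy; subst hy; simp
          | succ i ihi =>
            intro y hy
            rw [pow_succ'] at hy ⊢
            rw [bits_eq_mod_add, bits_eq_mod_add (n := y), show (2 * 2 ^ i + y) / 2 = 2 ^ i + y / 2 by omega,
              ihi (y / 2) (by omega)]
            omega
        have := key (i + 1) y (by rw [pow_succ']; omega)
        rw [pow_succ'] at this
        exact this.ge
      have hf := chainFun_add (n := 2 * x + y) (by omega)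
      have hfy := chainFun_add hy
      have hf2 := chainFun_add (n := 2 * x) (by omega)
      rw [bits_two_mul, hbx] at hf2
      omega

end CfsgLib.ChainLength
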