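import Cfsg.Agent.ChainLength.Bits

/-!
# The number of prime factors of an order dividing `n! / ⌈n/2⌉!`
-/

set_option autoImplicit false

open ArithmeticFunction hiding log
open Real
open scoped ArithmeticFunction.Omega

namespace CfsgLib.ChainLength

/-- Trial division. -/
def omAux : ℕ → ℕ → ℕ → ℕ
  | 0, _, k => k
  | fuel + 1, d, k =>
    if k ≤ 1 then 0 else if k < d * d then 1 else if k % d = 0 then 1 + omAux fuel d (k / d)
      else omAux fuel (d + 1) k

theorem cardFactors_le_self (k : ℕ) : Ω k ≤ k := by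
  rcases Nat.eq_zero_or_pos k with rfl | h
  · simp
  · have h1 : 2 ^ Ω k ≤ k := by
      rw [cardFactors_apply]
      conv_rhs => rw [← Nat.prod_primeFactorsList h.ne']
      refine List.pow_card_le_prod _ _ fun p hp => (Nat.prime_of_mem_primeFactorsList hp).two_le
    exact (Nat.lt_two_pow_self).le.trans h1

theorem cardFactors_le_omAux (fuel : ℕ) : ∀ d k : ℕ, 2 ≤ d → (∀ e, 2 ≤ e → e < d → ¬ e ∣ k) →
    Ω k ≤ omAux fuel d k := by
  induction fuel with
  | zero => exact fun d k _ _ => cardFactors_le_self k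
  | succ fuel ih =>
    intro d k hd hnd
    simp only [omAux]
    split_ifs with h1 h2 h3
    · interval_cases k <;> simp
    · refine (cardFactors_eq_one_iff_prime.2 (Nat.prime_def_le_sqrt.2 ⟨by omega, fun e he hes => ?_⟩)).le
      refine hnd e he (Nat.mul_self_lt_mul_self_iff.1 ?_)
      exact (Nat.le_sqrt.1 hes).trans_lt h2
    · have hk : d * (k / d) = k := Nat.mul_div_cancel' (Nat.dvd_of_mod_eq_zero h3)
      have hdp : d.Prime := Nat.prime_def_lt'.2
        ⟨hd, fun e he hed hd' => hnd e he hed (hd'.trans (Nat.dvd_of_mod_eq_zero h3))⟩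
      have hpos : k / d ≠ 0 := fun h => by rw [h, Nat.mul_zero] at hk; omega
      calc Ω k = Ω (d * (k / d)) := by rw [hk]
        _ = 1 + Ω (k / d) := by rw [cardFactors_mul (by omega) hpos, cardFactors_apply_prime hdp]
        _ ≤ _ := Nat.add_le_add_left (ih d _ hd fun e he hed hdiv =>
            hnd e he hed (hdiv.trans (Nat.div_dvd_of_dvd (Nat.dvd_of_mod_eq_zero h3)))) _
    · refine ih (d + 1) k (by omega) fun e he hed => ?_
      rcases Nat.lt_succ_iff_lt_or_eq.1 hed with h | rfl
      · exact hnd e he h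
      · exact fun h => h3 (Nat.mod_eq_zero_of_dvd h)

/-- An upper bound for `Ω k`. -/
def om (k : ℕ) : ℕ := omAux 64 2 k

theorem cardFactors_le_om (k : ℕ) : Ω k ≤ om k :=
  cardFactors_le_omAux 64 2 k le_rfl fun e he he' => by omega

/-- Partial sums of `om`. -/
def omSum : ℕ → ℕ
  | 0 => 0
  | k + 1 => omSum k + om (k + 1)

theorem cardFactors_factorial_le {h n : ℕ} (hn : h ≤ n) :
    Ω n.factorial + omSum h ≤ Ω h.factorial + omSum n := by
  induction hn with
  | refl => exact le_rfl
  | @step m _ ih =>
    rw [Nat.factorial_succ, cardFactors_mul (by omega) (Nat.factorial_ne_zero m), omSum]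
    have := cardFactors_le_om (m + 1)
    omega

/-- Binary ones, computed with fuel. -/
def bitsFuel : ℕ → ℕ → ℕ
  | 0, n => n
  | fuel + 1, n => if n = 0 then 0 else n % 2 + bitsFuel fuel (n / 2)

theorem bits_le_bitsFuel (fuel : ℕ) : ∀ n, bits n ≤ bitsFuel fuel n := by
  induction fuel with
  | zero => exact bits_le_self
  | succ fuel ih =>
    intro n
    simp only [bitsFuel]
    split_ifs with h
    · simp [h]
    · rw [bits_eq_mod_add]
      exact Nat.add_le_add_left (ih _) _

/-- The check for all degrees from `n` on, carrying the two partial sums. -/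
def checkOmega : ℕ → ℕ → ℕ → ℕ → Bool
  | 0, _, _, _ => true
  | fuel + 1, n, Sn, Sh =>
    decide (Sn + 3 + bitsFuel 16 n ≤ (3 * n + 1) / 2 + Sh) &&
      checkOmega fuel (n + 1) (Sn + om (n + 1)) (if n % 2 = 0 then Sh + om (n / 2 + 1) else Sh)

theorem checkOmega_sound (fuel : ℕ) : ∀ n, checkOmega fuel n (omSum n) (omSum ((n + 1) / 2)) = true →
    ∀ j < fuel, omSum (n + j) + 3 + bits (n + j) ≤ (3 * (n + j) + 1) / 2 + omSum ((n + j + 1) / 2) := by
  induction fuel with
  | zero => intro n _ j hj; omega
  | succ fuel ih =>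
    intro n h j hj
    simp only [checkOmega, Bool.and_eq_true, decide_eq_true_eq] at h
    rcases Nat.eq_zero_or_pos j with rfl | hj0
    · have := bits_le_bitsFuel 16 n
      simp only [Nat.add_zero]
      omega
    · have hs : (if n % 2 = 0 then omSum ((n + 1) / 2) + om (n / 2 + 1) else omSum ((n + 1) / 2)) =
          omSum ((n + 1 + 1) / 2) := by
        split_ifs with hp
        · rw [show (n + 1 + 1) / 2 = n / 2 + 1 by omega, omSum, show (n + 1) / 2 = n / 2 by omega]
        · congr 1; omega
      have h2 := h.2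
      rw [hs] at h2
      have := ih (n + 1) h2 (j - 1) (by omega)
      rwa [show n + 1 + (j - 1) = n + j by omega] at this

theorem check_five : checkOmega 1 5 (omSum 5) (omSum 3) = true := by decide +kernel

theorem check_mid : checkOmega 849 7 (omSum 7) (omSum 4) = true := by decide +kernel

/-- The small degrees. -/
theorem omega_small {n N : ℕ} (h5 : 5 ≤ n) (h6 : n ≠ 6) (hn : n ≤ 855)
    (hN : N * ((n + 1) / 2).factorial ∣ n.factorial) : Ω N + 2 ≤ chainFun n := by
  have hsum : omSum n + 3 + bits n ≤ (3 * n + 1) / 2 + omSum ((n + 1) / 2) := by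
    rcases Nat.lt_or_ge n 7 with h | h
    · obtain rfl : n = 5 := by omega
      exact checkOmega_sound 1 5 check_five 0 (by omega)
    · have := checkOmega_sound 849 7 check_mid (n - 7) (by omega)
      rwa [show 7 + (n - 7) = n by omega] at this
  have hf := chainFun_add (n := n) (by omega)
  have hfac := cardFactors_factorial_le (h := (n + 1) / 2) (n := n) (by omega)
  obtain ⟨c, hc⟩ := hN
  have hN0 : N ≠ 0 := by
    rintro rfl
    exact Nat.factorial_ne_zero n (by simpa using hc)
  have hc0 : c ≠ 0 := by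
    rintro rfl
    exact Nat.factorial_ne_zero n (by simpa using hc)
  rw [hc, cardFactors_mul (Nat.mul_ne_zero hN0 (Nat.factorial_ne_zero _)) hc0,
    cardFactors_mul hN0 (Nat.factorial_ne_zero _)] at hfac
  omega

/-- The weights of the small primes. -/
def weight (p : ℕ) : ℕ :=
  if p = 2 then 61 else if p = 3 then 53 else if p = 5 then 43 else if p = 7 then 36 else
  if p = 11 then 27 else if p = 13 then 24 else if p = 17 then 18 else if p = 19 then 16 else
  if p = 23 then 12 else if p = 29 then 7 else if p = 31 then 6 else if p = 37 then 3 else 0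

theorem weight_spec {p : ℕ} (hp : p.Prime) :
    75 * log 2 ≤ 14 * log p + (weight p : ℝ) * log 2 := by
  have key : ∀ e q : ℕ, 2 ^ e ≤ q ^ 14 → (e : ℝ) * log 2 ≤ 14 * log q := by
    intro e q h
    have h' : ((2 : ℝ) ^ e) ≤ (q : ℝ) ^ 14 := by exact_mod_cast h
    have := log_le_log (by positivity) h'
    rw [log_pow, log_pow] at this
    exact_mod_cast this
  rcases Nat.lt_or_ge p 41 with h | h
  · interval_cases p <;> first
      | (exfalso; revert hp; norm_num; done)
      | (have := key 14 2 (by norm_num); norm_num [weight] at *; linarith)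
      | (have := key 22 3 (by norm_num); norm_num [weight] at *; linarith)
      | (have := key 32 5 (by norm_num); norm_num [weight] at *; linarith)
      | (have := key 39 7 (by norm_num); norm_num [weight] at *; linarith)
      | (have := key 48 11 (by norm_num); norm_num [weight] at *; linarith)
      | (have := key 51 13 (by norm_num); norm_num [weight] at *; linarith)
      | (have := key 57 17 (by norm_num); norm_num [weight] at *; linarith)
      | (have := key 59 19 (by norm_num); norm_num [weight] at *; linarith)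
      | (have := key 63 23 (by norm_num); norm_num [weight] at *; linarith)
      | (have := key 68 29 (by norm_num); norm_num [weight] at *; linarith)
      | (have := key 69 31 (by norm_num); norm_num [weight] at *; linarith)
      | (have := key 72 37 (by norm_num); norm_num [weight] at *; linarith)
  · have h1 : (75 : ℝ) * log 2 ≤ 14 * log p := by
      have := key 75 p ((by norm_num : 2 ^ 75 ≤ 41 ^ 14).trans (Nat.pow_le_pow_left h _))
      exact_mod_cast this
    have : (0 : ℝ) ≤ (weight p : ℝ) * log 2 := by positivity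
    linarith

theorem weight_eq_zero {p : ℕ} (h : p ∉ ({2, 3, 5, 7, 11, 13, 17, 19, 23, 29, 31, 37} : Finset ℕ)) :
    weight p = 0 := by
  simp only [Finset.mem_insert, Finset.mem_singleton, not_or] at h
  simp [weight, h]

theorem log_two_mul_cardFactors_le {N : ℕ} (hN : N ≠ 0) :
    75 * log 2 * (Ω N : ℝ) ≤ 14 * log N + log 2 *
      (∑ p ∈ ({2, 3, 5, 7, 11, 13, 17, 19, 23, 29, 31, 37} : Finset ℕ),
        (weight p : ℝ) * N.factorization p) := by
  have h1 : (Ω N : ℝ) = ∑ p ∈ N.factorization.support, (N.factorization p : ℝ) := by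
    rw [cardFactors_eq_sum_factorization, Finsupp.sum, Nat.cast_sum]
  rw [h1, log_nat_eq_sum_factorization, Finsupp.sum, Finset.mul_sum, Finset.mul_sum]
  set T : Finset ℕ := {2, 3, 5, 7, 11, 13, 17, 19, 23, 29, 31, 37} with hT
  have h2 : ∑ p ∈ T, (weight p : ℝ) * N.factorization p =
      ∑ p ∈ N.factorization.support, (weight p : ℝ) * N.factorization p := by
    refine (Finset.sum_subset (Finset.subset_union_left (s₂ := N.factorization.support)) ?_).trans
      (Finset.sum_subset (Finset.subset_union_right (s₁ := T)) ?_).symm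
    · intro p _ hp
      rw [weight_eq_zero hp, Nat.cast_zero, zero_mul]
    · intro p _ hp
      rw [Finsupp.notMem_support_iff.1 hp, Nat.cast_zero, mul_zero]
  rw [h2, Finset.mul_sum, ← Finset.sum_add_distrib]
  refine Finset.sum_le_sum fun p hp => ?_
  rw [Nat.support_factorization] at hp
  have := mul_le_mul_of_nonneg_left (weight_spec (Nat.prime_of_mem_primeFactors hp))
    (Nat.cast_nonneg (α := ℝ) (N.factorization p))
  linarith

theorem digits_sum_le {p h : ℕ} (hp : 2 ≤ p) :
    (p.digits h).sum ≤ (p - 1) * (Nat.log p h + 1) := by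
  rcases Nat.eq_zero_or_pos h with rfl | hh
  · simp
  · refine (List.sum_le_card_nsmul _ (p - 1) fun x hx => ?_).trans ?_
    · have := Nat.digits_lt_base (by omega) hx; omega
    · rw [smul_eq_mul, Nat.mul_comm, Nat.digits_len p h (by omega) hh.ne']

theorem valuation_le {n N p : ℕ} (hp : p.Prime) (hN : N * ((n + 1) / 2).factorial ∣ n.factorial) :
    2 * (p - 1) * N.factorization p ≤ n + 2 * (p - 1) * (Nat.log p n + 1) := by
  have : Fact p.Prime := ⟨hp⟩
  have hN0 : N ≠ 0 := by
    rintro rfl
    rw [Nat.zero_mul, zero_dvd_iff] at hN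
    exact Nat.factorial_ne_zero n hN
  have h := (Nat.factorization_le_iff_dvd (Nat.mul_ne_zero hN0 (Nat.factorial_ne_zero _))
    (Nat.factorial_ne_zero n)).2 hN p
  rw [Nat.factorization_mul hN0 (Nat.factorial_ne_zero _), Finsupp.add_apply,
    Nat.factorization_def n.factorial hp, Nat.factorization_def ((n + 1) / 2).factorial hp] at h
  have h1 := sub_one_mul_padicValNat_factorial (p := p) n
  have h2 := sub_one_mul_padicValNat_factorial (p := p) ((n + 1) / 2)
  have h3 := Nat.mul_le_mul_left (p - 1) h
  have h4 := digits_sum_le (h := (n + 1) / 2) hp.two_le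
  have h5 := Nat.mul_le_mul_left (p - 1) (Nat.add_le_add_right (Nat.log_mono_right (b := p) (by omega : (n + 1) / 2 ≤ n)) 1)
  have h6 := Nat.digit_sum_le p ((n + 1) / 2)
  rw [Nat.mul_add] at h3
  rw [Nat.mul_assoc, Nat.mul_assoc 2]
  omega

/-- The large degrees, given the bound on the order. -/
theorem omega_large {n N : ℕ} (hn : 856 ≤ n) (hN : N * ((n + 1) / 2).factorial ∣ n.factorial)
    (hlog : log N ≤ 2.55 * n) (hln : log n ≤ 0.232 * √(n : ℝ)) (hs : 29.25 ≤ √(n : ℝ)) :
    Ω N + 2 ≤ chainFun n := by
  have hN0 : N ≠ 0 := by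
    rintro rfl
    rw [Nat.zero_mul, zero_dvd_iff] at hN
    exact Nat.factorial_ne_zero n hN
  have hmain := log_two_mul_cardFactors_le hN0
  set L := Nat.log 2 n with hL
  have hv : ∀ p : ℕ, p.Prime → (2 * ((p : ℝ) - 1)) * N.factorization p ≤
      n + 2 * ((p : ℝ) - 1) * ((Nat.log p n : ℝ) + 1) := by
    intro p hp
    have h : ((2 * (p - 1) * N.factorization p : ℕ) : ℝ) ≤ ((n + 2 * (p - 1) * (Nat.log p n + 1) : ℕ) : ℝ) := by
      exact_mod_cast valuation_le hp hN
    push_cast [Nat.cast_sub hp.one_lt.le] at h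
    exact h
  have hLp : ∀ p : ℕ, 2 ≤ p → (Nat.log p n : ℝ) ≤ L := fun p hp => by
    exact_mod_cast Nat.log_anti_left (by norm_num) hp
  have hL4 : ∀ p : ℕ, 4 ≤ p → 2 * (Nat.log p n : ℝ) ≤ L := fun p hp => by
    have : 2 * Nat.log p n ≤ L := by
      refine Nat.le_log_of_pow_le (by norm_num) ?_
      rw [Nat.pow_mul]
      exact (Nat.pow_le_pow_left hp _).trans (Nat.pow_log_le_self p (by omega))
    exact_mod_cast this
  have e2 := hv 2 Nat.prime_two
  have e3 := hv 3 Nat.prime_three
  have e5 := hv 5 (by norm_num)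
  have e7 := hv 7 (by norm_num)
  have e11 := hv 11 (by norm_num)
  have e13 := hv 13 (by norm_num)
  have e17 := hv 17 (by norm_num)
  have e19 := hv 19 (by norm_num)
  have e23 := hv 23 (by norm_num)
  have e29 := hv 29 (by norm_num)
  have e31 := hv 31 (by norm_num)
  have e37 := hv 37 (by norm_num)
  have l3 := hLp 3 (by norm_num)
  have l5 := hL4 5 (by norm_num)
  have l7 := hL4 7 (by norm_num)
  have l11 := hL4 11 (by norm_num)
  have l13 := hL4 13 (by norm_num)
  have l17 := hL4 17 (by norm_num)
  have l19 := hL4 19 (by norm_num)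
  have l23 := hL4 23 (by norm_num)
  have l29 := hL4 29 (by norm_num)
  have l31 := hL4 31 (by norm_num)
  have l37 := hL4 37 (by norm_num)
  have hS : (∑ p ∈ ({2, 3, 5, 7, 11, 13, 17, 19, 23, 29, 31, 37} : Finset ℕ),
      (weight p : ℝ) * N.factorization p) ≤ 56.03 * n + 210 * L + 306 := by
    simp only [weight, Finset.sum_insert, Finset.mem_insert, Finset.mem_singleton, Finset.sum_singleton,
      OfNat.ofNat_eq_ofNat, reduceIte, Nat.reduceEqDiff, or_self, not_false_eq_true]
    norm_num at e2 e3 e5 e7 e11 e13 e17 e19 e23 e29 e31 e37 ⊢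
    push_cast at l3 l5 l7 l11 l13 l17 l19 l23 l29 l31 l37
    rw [← hL] at e2
    linarith
  have hLn : (L : ℝ) * log 2 ≤ 0.008 * n := by
    have h1 : ((2 : ℝ) ^ L) ≤ n := by exact_mod_cast Nat.pow_log_le_self 2 (by omega : n ≠ 0)
    have := log_le_log (by positivity) h1
    rw [log_pow] at this
    have hsn : √(n : ℝ) * 29.25 ≤ n := by
      nlinarith [Real.mul_self_sqrt (by positivity : (0 : ℝ) ≤ n)]
    linarith
  have hl2 := log_two_gt_d9
  have hl2' := log_two_lt_d9
  have hL' : (L : ℝ) ≤ 0.01155 * n := by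
    by_contra hc
    push Not at hc
    have := mul_lt_mul_of_pos_right hc (by positivity : (0 : ℝ) < log 2)
    have := mul_le_mul_of_nonneg_left hl2.le (by positivity : (0 : ℝ) ≤ 0.01155 * n)
    linarith
  have hb : (bits n : ℝ) ≤ (L : ℝ) + 1 := by exact_mod_cast bits_le_log n
  have hΩ : (Ω N : ℝ) ≤ 14 * 2.55 * n / (75 * log 2) + (56.03 * n + 210 * L + 306) / 75 := by
    rw [← mul_le_mul_iff_of_pos_left (by positivity : (0 : ℝ) < 75 * log 2)]
    refine hmain.trans ?_
    have h1 := mul_le_mul_of_nonneg_left hS (log_nonneg (by norm_num : (1 : ℝ) ≤ 2))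
    rw [mul_add, mul_div_cancel₀ _ (by positivity)]
    have : 75 * log 2 * ((56.03 * (n : ℝ) + 210 * L + 306) / 75) =
        log 2 * (56.03 * n + 210 * L + 306) := by ring
    linarith
  have hdiv : 14 * 2.55 * (n : ℝ) / (75 * log 2) ≤ 0.6868 * n := by
    rw [div_le_iff₀ (by positivity)]
    have := mul_le_mul_of_nonneg_left hl2.le (by positivity : (0 : ℝ) ≤ 75 * (0.6868 * n))
    linarith
  have hn' : (856 : ℝ) ≤ n := by exact_mod_cast hn
  have hcount : 2 * (Ω N + 3 + bits n) ≤ 3 * n := by
    have : (2 : ℝ) * ((Ω N : ℝ) + 3 + bits n) ≤ 3 * n := by linarith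
    exact_mod_cast this
  have hf := chainFun_add (n := n) (by omega)
  omega

end CfsgLib.ChainLength
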