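import Mathlib

/-!
# An order bound from a separating colouring

If a group acts faithfully on `n` points and preserves a colouring of pairs such that any two points are
told apart by at least `D` points, then its order is `exp O((n / D) (log n) ^ 2)`.  The base is chosen
greedily for the sum of the logarithms of the class sizes, and a tangent line gives the average step.
-/

set_option autoImplicit false

open Finset Real

namespace CfsgLib.ChainLength

/-- Jensen's inequality for the logarithm, in the form used below. -/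
theorem sum_log_le {ι : Type*} (s : Finset ι) (x : ι → ℝ) (e : ℝ) (he : 0 < e)
    (hx : ∀ i ∈ s, 0 < x i) (hsum : ∑ i ∈ s, x i ≤ s.card * e) :
    ∑ i ∈ s, log (x i) ≤ s.card * log e := by
  have h : ∀ i ∈ s, log (x i) ≤ log e + (x i / e - 1) := by
    intro i hi
    have h1 := log_le_sub_one_of_pos (div_pos (hx i hi) he)
    rw [log_div (hx i hi).ne' he.ne'] at h1
    linarith
  refine (Finset.sum_le_sum h).trans ?_
  rw [Finset.sum_add_distrib, Finset.sum_sub_distrib, ← Finset.sum_div]
  simp only [Finset.sum_const, nsmul_eq_mul, mul_one]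
  have : (∑ i ∈ s, x i) / e ≤ (s.card : ℝ) := (div_le_iff₀ he).2 hsum
  linarith

theorem log_one_add_exp_le (x : ℝ) : log (1 + exp x) ≤ max x 0 + exp (-|x|) := by
  rcases le_or_gt x 0 with hx | hx
  · rw [max_eq_right hx, abs_of_nonpos hx, neg_neg, zero_add]
    have := log_le_sub_one_of_pos (by positivity : (0 : ℝ) < 1 + exp x)
    linarith
  · rw [max_eq_left hx.le, abs_of_pos hx]
    have h1 : 1 + exp x = exp x * (1 + exp (-x)) := by
      rw [mul_add, mul_one, ← exp_add, add_neg_cancel, exp_zero, add_comm]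
    rw [h1, log_mul (exp_pos x).ne' (by positivity), log_exp]
    have := log_le_sub_one_of_pos (by positivity : (0 : ℝ) < 1 + exp (-x))
    linarith

theorem geom_le {r : ℝ} (h0 : 0 ≤ r) (h1 : r < 1) (N : ℕ) :
    ∑ i ∈ range N, r ^ i ≤ 1 / (1 - r) := by
  rw [le_div_iff₀ (by linarith), geom_sum_mul_neg]
  nlinarith [pow_nonneg h0 N]

/-- The partial sums of the dilogarithm series. -/
theorem sum_log_one_add_exp_le (a δ : ℝ) (ha : 0 ≤ a) (hδ : 0 < δ) (hδ1 : δ ≤ 1) (K : ℕ) :
    ∑ i ∈ range K, log (1 + exp (a - i * δ)) ≤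
      a ^ 2 / (2 * δ) + a / 2 + 2 / δ + 3 := by
  set N := ⌊a / δ⌋₊ with hN
  have hN1 : (N : ℝ) * δ ≤ a := (le_div_iff₀ hδ).1 (Nat.floor_le (by positivity))
  have hN2 : a < (N + 1 : ℝ) * δ := (div_lt_iff₀ hδ).1 (Nat.lt_floor_add_one _)
  have hpos : ∀ i : ℕ, 0 ≤ log (1 + exp (a - i * δ)) := fun i =>
    log_nonneg (by linarith [exp_pos (a - i * δ)])
  calc ∑ i ∈ range K, log (1 + exp (a - i * δ))
      ≤ ∑ i ∈ range (N + 1 + K), log (1 + exp (a - i * δ)) :=
        Finset.sum_le_sum_of_subset_of_nonneg (range_mono (by omega)) fun i _ _ => hpos i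
    _ = ∑ i ∈ range (N + 1), log (1 + exp (a - i * δ)) +
          ∑ i ∈ range K, log (1 + exp (a - (N + 1 + i : ℕ) * δ)) := Finset.sum_range_add _ _ _
    _ ≤ ∑ i ∈ range (N + 1), ((a - i * δ) + exp (-δ) ^ (N - i)) +
          ∑ i ∈ range K, exp (-δ) ^ i := by
        refine add_le_add (Finset.sum_le_sum fun i hi => ?_) (Finset.sum_le_sum fun i _ => ?_)
        · have hi' : i ≤ N := Nat.lt_succ_iff.1 (mem_range.1 hi)
          have h0 : 0 ≤ a - i * δ := by
            have : (i : ℝ) * δ ≤ N * δ := mul_le_mul_of_nonneg_right (by exact_mod_cast hi') hδ.le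
            linarith
          refine (log_one_add_exp_le _).trans ?_
          rw [max_eq_left h0, abs_of_nonneg h0, ← exp_nat_mul]
          refine add_le_add le_rfl (exp_le_exp.2 ?_)
          push_cast [Nat.cast_sub hi']
          nlinarith
        · have h0 : a - (N + 1 + i : ℕ) * δ ≤ -(i * δ) := by
            push_cast
            nlinarith
          have := log_le_sub_one_of_pos (by positivity : (0 : ℝ) < 1 + exp (a - (N + 1 + i : ℕ) * δ))
          have h2 := exp_le_exp.2 h0
          rw [← exp_nat_mul, mul_neg]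
          linarith
    _ = ∑ i ∈ range (N + 1), (a - i * δ) + ∑ i ∈ range (N + 1), exp (-δ) ^ i +
          ∑ i ∈ range K, exp (-δ) ^ i := by
        rw [Finset.sum_add_distrib]
        have := Finset.sum_range_reflect (fun i => exp (-δ) ^ i) (N + 1)
        simp only [add_tsub_cancel_right] at this
        rw [this]
    _ ≤ a ^ 2 / (2 * δ) + a / 2 + 2 / δ + 3 := by
        have hr0 := exp_pos (-δ)
        have hr : exp (-δ) ≤ 1 / (1 + δ) := by
          rw [exp_neg, one_div]
          exact inv_anti₀ (by linarith) (by linarith [add_one_le_exp δ])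
        have hr1 : exp (-δ) < 1 := exp_lt_one_iff.2 (by linarith)
        have hg : 1 / (1 - exp (-δ)) ≤ 1 / δ + 1 := by
          rw [div_le_iff₀ (by linarith)]
          have h3 : exp (-δ) * (1 + δ) ≤ 1 := (le_div_iff₀ (by linarith)).1 hr
          field_simp
          linarith
        have hg1 := (geom_le hr0.le hr1 (N + 1)).trans hg
        have hg2 := (geom_le hr0.le hr1 K).trans hg
        have hs0 : ∀ m : ℕ, ∑ i ∈ range m, (a - i * δ) = m * (a - δ * ((m : ℝ) - 1) / 2) := by
          intro m
          induction m with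
          | zero => simp
          | succ m ihm => rw [Finset.sum_range_succ, ihm]; push_cast; ring
        have hs : ∑ i ∈ range (N + 1), (a - i * δ) = (N + 1) * (a - δ * N / 2) := by
          rw [hs0]; push_cast; ring
        have hq : (N + 1 : ℝ) * (a - δ * N / 2) ≤ a ^ 2 / (2 * δ) + a / 2 + δ / 8 := by
          have : a ^ 2 / (2 * δ) + a / 2 + δ / 8 - (N + 1 : ℝ) * (a - δ * N / 2) =
              (δ * (N + 1 / 2) - a) ^ 2 / (2 * δ) := by field_simp; ring
          nlinarith [div_nonneg (sq_nonneg (δ * ((N : ℝ) + 1 / 2) - a)) (by linarith : 0 ≤ 2 * δ)]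
        have h2 : 2 / δ = 1 / δ + 1 / δ := by ring
        rw [hs]
        linarith

section

variable {G Ω C : Type*} [Group G] [MulAction G Ω] [Fintype Ω] [DecidableEq Ω] [DecidableEq C]
  (c : Ω → Ω → C)

/-- The points having the same colours from `R` as `w`. -/
def cls (R : Finset Ω) (w : Ω) : Finset Ω := univ.filter fun y => ∀ r ∈ R, c r y = c r w

theorem self_mem_cls (R : Finset Ω) (w : Ω) : w ∈ cls c R w := by simp [cls]

theorem cls_insert (R : Finset Ω) (w y : Ω) :
    cls c (insert w R) y = (cls c R y).filter fun z => c w z = c w y := by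
  ext z
  simp only [cls, mem_filter, mem_univ, true_and, Finset.forall_mem_insert]
  exact and_comm

/-- The number of ordered pairs of distinct points not separated by `R`. -/
def pot (R : Finset Ω) : ℕ := ∑ y, ((cls c R y).erase y).card

theorem pot_insert_le (R : Finset Ω) (w : Ω) : pot c (insert w R) ≤ pot c R :=
  Finset.sum_le_sum fun y _ => Finset.card_le_card
    (Finset.erase_subset_erase _ (cls_insert c R w y ▸ Finset.filter_subset _ _))

theorem sum_pot_insert (R : Finset Ω) {D : ℕ}
    (hD : ∀ y z, y ≠ z → D ≤ (univ.filter fun w => c w y ≠ c w z).card) :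
    ∑ w, pot c (insert w R) + D * pot c R ≤ Fintype.card Ω * pot c R := by
  simp only [pot]
  rw [Finset.sum_comm, Finset.mul_sum, Finset.mul_sum, ← Finset.sum_add_distrib]
  refine Finset.sum_le_sum fun y _ => ?_
  have h : ∀ w, ((cls c (insert w R) y).erase y).card =
      ∑ z ∈ (cls c R y).erase y, if c w z = c w y then 1 else 0 := by
    intro w
    rw [← Finset.card_filter, cls_insert, Finset.filter_erase]
  simp only [h]
  rw [Finset.sum_comm, mul_comm D, mul_comm (Fintype.card Ω), ← smul_eq_mul, ← smul_eq_mul,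
    ← Finset.sum_const, ← Finset.sum_const, ← Finset.sum_add_distrib]
  refine Finset.sum_le_sum fun z hz => ?_
  rw [← Finset.card_filter]
  have h1 := Finset.card_filter_add_card_filter_not (s := (univ : Finset Ω)) (fun w => c w z = c w y)
  have h2 := hD z y (Finset.ne_of_mem_erase hz)
  rw [Finset.card_univ] at h1
  simp only [ne_eq] at h2
  omega

theorem exists_drop {R : Finset Ω} {D : ℕ} (hD1 : 1 ≤ D)
    (hD : ∀ y z, y ≠ z → D ≤ (univ.filter fun w => c w y ≠ c w z).card) (h : 0 < pot c R) :
    ∃ w, pot c (insert w R) < pot c R := by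
  by_contra hc
  push Not at hc
  have h1 := sum_pot_insert c R hD
  have h2 : ∑ _w : Ω, pot c R ≤ ∑ w, pot c (insert w R) := Finset.sum_le_sum fun w _ => hc w
  rw [Finset.sum_const, Finset.card_univ, smul_eq_mul] at h2
  have : 0 < D * pot c R := Nat.mul_pos hD1 h
  omega

variable [Finite G] [FaithfulSMul G Ω] {c}

theorem card_fixing_le (hc : ∀ (g : G) (w y : Ω), c (g • w) (g • y) = c w y) (R : Finset Ω) (w : Ω) :
    Nat.card (fixingSubgroup G (R : Set Ω)) ≤
      (cls c R w).card * Nat.card (fixingSubgroup G ((insert w R : Finset Ω) : Set Ω)) := by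
  classical
  set H := fixingSubgroup G (R : Set Ω)
  have hmap : (MulAction.stabilizer H w).map H.subtype =
      fixingSubgroup G ((insert w R : Finset Ω) : Set Ω) := by
    ext g
    simp only [Subgroup.mem_map, MulAction.mem_stabilizer_iff, mem_fixingSubgroup_iff, Finset.coe_insert,
      Set.forall_mem_insert]
    constructor
    · rintro ⟨⟨g, hg⟩, hw, rfl⟩
      exact ⟨hw, (mem_fixingSubgroup_iff G).1 hg⟩
    · rintro ⟨hw, hR⟩
      exact ⟨⟨g, (mem_fixingSubgroup_iff G).2 hR⟩, hw, rfl⟩
  rw [← hmap, Subgroup.card_map_of_injective Subtype.val_injective]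
  have h := Nat.card_congr (MulAction.orbitProdStabilizerEquivGroup H w)
  rw [Nat.card_prod] at h
  rw [← h]
  refine Nat.mul_le_mul_right _ ?_
  rw [Nat.card_coe_set_eq, ← Set.ncard_coe_finset]
  refine Set.ncard_le_ncard ?_ (Finset.finite_toSet _)
  rintro _ ⟨⟨g, hg⟩, rfl⟩
  simp only [cls, Finset.coe_filter, Finset.mem_univ, true_and]
  intro r hr
  have hgr := (mem_fixingSubgroup_iff G).1 hg r hr
  conv_lhs => rw [← hgr]
  exact hc g r w

theorem card_fixing_eq_one {R : Finset Ω} (hc : ∀ (g : G) (w y : Ω), c (g • w) (g • y) = c w y)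
    (h : pot c R = 0) : Nat.card (fixingSubgroup G (R : Set Ω)) = 1 := by
  rw [Subgroup.card_eq_one, Subgroup.eq_bot_iff_forall]
  intro g hg
  refine eq_of_smul_eq_smul (α := Ω) fun y => ?_
  rw [one_smul]
  simp only [pot, Finset.sum_eq_zero_iff, Finset.mem_univ, forall_const, Finset.card_eq_zero] at h
  by_contra hne
  have hmem : g • y ∈ (cls c R y).erase y := by
    refine Finset.mem_erase.2 ⟨hne, Finset.mem_filter.2 ⟨Finset.mem_univ _, fun r hr => ?_⟩⟩
    conv_lhs => rw [← (mem_fixingSubgroup_iff G).1 hg r hr]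
    exact hc g r y
  simp [h y] at hmem

/-- The greedy base gives the bound. -/
theorem log_card_fixing_le (hc : ∀ (g : G) (w y : Ω), c (g • w) (g • y) = c w y) {D : ℕ} (hD1 : 1 ≤ D)
    (hDn : D ≤ Fintype.card Ω)
    (hD : ∀ y z, y ≠ z → D ≤ (univ.filter fun w => c w y ≠ c w z).card) (K : ℕ) (R : Finset Ω) :
    log (Nat.card (fixingSubgroup G (R : Set Ω))) ≤
      ∑ i ∈ range K, log (1 + (1 - (D : ℝ) / Fintype.card Ω) ^ i * (pot c R / Fintype.card Ω)) +
        (1 - (D : ℝ) / Fintype.card Ω) ^ K / D * pot c R := by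
  classical
  set n := Fintype.card Ω with hn
  have hn0 : 0 < (n : ℝ) := by exact_mod_cast (lt_of_lt_of_le hD1 hDn)
  set q : ℝ := 1 - (D : ℝ) / n with hq
  have hq0 : 0 ≤ q := by
    rw [hq, sub_nonneg, div_le_one hn0]; exact_mod_cast hDn
  have hD0 : 0 < (D : ℝ) := by exact_mod_cast hD1
  induction hp : pot c R using Nat.strong_induction_on generalizing R with
  | _ P ih =>
    subst hp
    rcases Nat.eq_zero_or_pos (pot c R) with h0 | h0
    · rw [card_fixing_eq_one hc h0, h0]; simp
    let F : ℝ → ℝ := fun t => ∑ i ∈ range K, log (1 + q ^ i * (t / n)) + q ^ K / D * t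
    let val : Ω → ℝ := fun w => log (cls c R w).card + F (pot c (insert w R))
    have hcl : ∀ w, (0 : ℝ) < (cls c R w).card := fun w => by
      exact_mod_cast Finset.card_pos.2 ⟨w, self_mem_cls c R w⟩
    set P : ℝ := ((pot c R : ℕ) : ℝ) with hP
    have hPw : ∑ w, (pot c (insert w R) : ℝ) ≤ n * (q * P) := by
      have h := sum_pot_insert c R hD
      have h' : ∑ w, (pot c (insert w R) : ℝ) + D * P ≤ n * P := by
        rw [hP]; exact_mod_cast h
      rw [hq, sub_mul, mul_sub, one_mul, ← mul_assoc, mul_div_cancel₀ _ hn0.ne']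
      linarith
    have havg : ∑ w, val w ≤ n * F P := by
      simp only [val, F, Finset.sum_add_distrib]
      have h1 : ∑ w, log ((cls c R w).card : ℝ) ≤ n * log (1 + q ^ 0 * (P / n)) := by
        rw [hn, ← Finset.card_univ]
        refine sum_log_le _ _ _ (by positivity) (fun w _ => hcl w) ?_
        rw [pow_zero, one_mul, Finset.card_univ, ← hn, mul_add, mul_one, mul_div_cancel₀ _ hn0.ne', hP]
        have : ∀ w, ((cls c R w).card : ℝ) = 1 + (((cls c R w).erase w).card : ℝ) := fun w => by
          rw [← Finset.card_erase_add_one (self_mem_cls c R w)]; push_cast; ring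
        simp only [this, Finset.sum_add_distrib, pot, Nat.cast_sum, Finset.sum_const, Finset.card_univ,
          nsmul_eq_mul, mul_one, ← hn, le_refl]
      have h2 : ∀ i, ∑ w, log (1 + q ^ i * ((pot c (insert w R) : ℝ) / n)) ≤
          n * log (1 + q ^ (i + 1) * (P / n)) := by
        intro i
        rw [hn, ← Finset.card_univ]
        refine sum_log_le _ _ _ (by positivity) (fun w _ => by positivity) ?_
        rw [Finset.sum_add_distrib, ← Finset.mul_sum, ← Finset.sum_div, Finset.card_univ, ← hn, mul_add]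
        simp only [Finset.sum_const, Finset.card_univ, nsmul_eq_mul, mul_one, ← hn]
        have := mul_le_mul_of_nonneg_left (div_le_div_of_nonneg_right hPw hn0.le) (pow_nonneg hq0 i)
        rw [mul_div_cancel_left₀ _ hn0.ne'] at this
        have hr : (n : ℝ) * (q ^ (i + 1) * (P / n)) = q ^ i * (q * P) := by field_simp; ring
        linarith
      rw [Finset.sum_comm, ← Finset.mul_sum]
      have hS := Finset.sum_le_sum fun i (_ : i ∈ range K) => h2 i
      rw [← Finset.mul_sum] at hS
      have hsplit : log (1 + q ^ 0 * (P / n)) + ∑ i ∈ range K, log (1 + q ^ (i + 1) * (P / n)) =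
          ∑ i ∈ range K, log (1 + q ^ i * (P / n)) + log (1 + q ^ K * (P / n)) := by
        rw [← Finset.sum_range_succ (fun i => log (1 + q ^ i * (P / n))), Finset.sum_range_succ', add_comm]
      have hlast : log (1 + q ^ K * (P / n)) ≤ q ^ K * (P / n) := by
        have := log_le_sub_one_of_pos (by positivity : (0 : ℝ) < 1 + q ^ K * (P / n))
        linarith
      have hKD : q ^ K / D * (n * (q * P)) = n * (q ^ K / D * P) - n * (q ^ K * (P / n)) := by
        rw [hq]; field_simp
      have h3 := mul_le_mul_of_nonneg_left hPw (by positivity : 0 ≤ q ^ K / D)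
      nlinarith
    obtain ⟨w, hw, hwv⟩ : ∃ w, pot c (insert w R) < pot c R ∧ val w ≤ F P := by
      by_contra hne
      push Not at hne
      obtain ⟨w₀, hw₀⟩ := exists_drop c hD1 hD h0
      have hall : ∀ w, F P ≤ val w := by
        intro w
        rcases (pot_insert_le c R w).lt_or_eq with h | h
        · exact (hne w h).le
        · simp only [val, hP, h, le_add_iff_nonneg_left]
          exact log_nonneg (by exact_mod_cast Finset.card_pos.2 ⟨w, self_mem_cls c R w⟩)
      have : ∑ _w : Ω, F P < ∑ w, val w :=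
        Finset.sum_lt_sum (fun w _ => hall w) ⟨w₀, Finset.mem_univ _, hne w₀ hw₀⟩
      rw [Finset.sum_const, Finset.card_univ, nsmul_eq_mul, ← hn] at this
      linarith
    have hstep := card_fixing_le hc R w
    have hih := ih _ hw (insert w R) rfl
    have hpos : (0 : ℝ) < Nat.card (fixingSubgroup G ((insert w R : Finset Ω) : Set Ω)) := by
      exact_mod_cast Nat.card_pos
    calc log (Nat.card (fixingSubgroup G (R : Set Ω)) : ℝ)
        ≤ log (((cls c R w).card : ℝ) * Nat.card (fixingSubgroup G ((insert w R : Finset Ω) : Set Ω))) :=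
          log_le_log (by exact_mod_cast Nat.card_pos) (by exact_mod_cast hstep)
      _ = log ((cls c R w).card : ℝ) +
            log (Nat.card (fixingSubgroup G ((insert w R : Finset Ω) : Set Ω))) :=
          log_mul (hcl w).ne' hpos.ne'
      _ ≤ val w := add_le_add le_rfl hih
      _ ≤ _ := hwv

/-- **Order bound from a separating colouring.** -/
theorem log_card_le_of_separated (hc : ∀ (g : G) (w y : Ω), c (g • w) (g • y) = c w y) {D : ℕ}
    (hD1 : 1 ≤ D) (hD : ∀ y z, y ≠ z → D ≤ (univ.filter fun w => c w y ≠ c w z).card) :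
    log (Nat.card G) ≤ (Fintype.card Ω : ℝ) / D * ((log (Fintype.card Ω)) ^ 2 / 2 + 2) +
      log (Fintype.card Ω) / 2 + 4 := by
  classical
  set n := Fintype.card Ω with hn
  have hL : 0 ≤ log (n : ℝ) := log_natCast_nonneg n
  rcases le_or_gt n 1 with hn1 | hn1
  · have : Subsingleton Ω := Fintype.card_le_one_iff_subsingleton.1 hn1
    have : Subsingleton G := ⟨fun g h => eq_of_smul_eq_smul (α := Ω) fun y => Subsingleton.elim _ _⟩
    rw [Nat.card_of_subsingleton (1 : G), Nat.cast_one, log_one]
    positivity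
  obtain ⟨y, z, hyz⟩ := Fintype.one_lt_card_iff.1 hn1
  have hDn : D ≤ n := (hD y z hyz).trans (Finset.card_le_univ _)
  have hn0 : 0 < (n : ℝ) := by exact_mod_cast (Nat.zero_lt_of_lt hn1)
  have hD0 : 0 < (D : ℝ) := by exact_mod_cast hD1
  set δ := (D : ℝ) / n with hδ
  have hδ0 : 0 < δ := by positivity
  have hδ1 : δ ≤ 1 := (div_le_one hn0).2 (by exact_mod_cast hDn)
  obtain ⟨K, hK⟩ : ∃ K : ℕ, (1 - δ) ^ K < 1 / (n : ℝ) ^ 2 :=
    exists_pow_lt_of_lt_one (by positivity) (by linarith)
  have h := log_card_fixing_le hc hD1 hDn hD K (∅ : Finset Ω)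
  rw [Finset.coe_empty, fixingSubgroup_empty, Subgroup.card_top] at h
  have hP : (pot c (∅ : Finset Ω) : ℝ) ≤ (n : ℝ) ^ 2 := by
    have : pot c (∅ : Finset Ω) ≤ ∑ _y : Ω, n := Finset.sum_le_sum fun y _ => Finset.card_le_univ _
    rw [Finset.sum_const, Finset.card_univ, smul_eq_mul, ← hn] at this
    rw [sq]; exact_mod_cast this
  have hq0 : 0 ≤ 1 - δ := by linarith
  have h1 : (1 - δ) ^ K / D * pot c (∅ : Finset Ω) ≤ 1 := by
    have h2 : (1 - δ) ^ K / D ≤ 1 / (n : ℝ) ^ 2 :=
      (div_le_self (pow_nonneg hq0 K) (by exact_mod_cast hD1)).trans hK.le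
    calc _ ≤ 1 / (n : ℝ) ^ 2 * (n : ℝ) ^ 2 := mul_le_mul h2 hP (by positivity) (by positivity)
      _ = 1 := by field_simp
  have h2 : ∑ i ∈ range K, log (1 + (1 - δ) ^ i * ((pot c (∅ : Finset Ω) : ℝ) / n)) ≤
      ∑ i ∈ range K, log (1 + exp (log n - i * δ)) := by
    refine Finset.sum_le_sum fun i _ => log_le_log (by positivity) (add_le_add le_rfl ?_)
    rw [exp_sub, exp_log hn0, div_eq_mul_inv (n : ℝ), ← exp_neg, ← mul_neg, exp_nat_mul,
      mul_comm (n : ℝ)]
    refine mul_le_mul (pow_le_pow_left₀ hq0 (by linarith [add_one_le_exp (-δ)]) i) ?_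
      (by positivity) (by positivity)
    rw [div_le_iff₀ hn0]; linarith
  have h3 := sum_log_one_add_exp_le (log n) δ hL hδ0 hδ1 K
  have h4 : (log (n : ℝ)) ^ 2 / (2 * δ) + 2 / δ = (n : ℝ) / D * ((log n) ^ 2 / 2 + 2) := by
    rw [hδ]; field_simp
  simp only [hδ] at h1 h2 h3 h4 ⊢
  linarith

end

end CfsgLib.ChainLength
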